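import Cfsg.Agent.Lib.PermComp.OutP.Suz.Data

set_option autoImplicit false
set_option maxRecDepth 100000
set_option maxHeartbeats 0

namespace Cfsg.Agent.Lib.PermComp.OutP.Suz

open Cfsg Cfsg.Agent.Lib.PermComp.OutP
open Cfsg.Agent.Lib.PermComp.Core (force)
open Cfsg.Agent.Lib.PermComp.Kron (rangeAll rangeAll_spec)

theorem dL0_lv : rangeAll (levOK n F dL0) 0 1782 = true := by decide +kernel
theorem dL0_fx : fixOK F 0 2 [] = true := by decide +kernel
theorem dL1_lv : rangeAll (levOK n F dL1) 0 1365 = true := by decide +kernel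
theorem dL1_fx : fixOK F 2 2 [0] = true := by decide +kernel
theorem dL2_lv : rangeAll (levOK n F dL2) 0 1024 = true := by decide +kernel
theorem dL2_fx : fixOK F 4 5 [1, 0] = true := by decide +kernel
theorem dL3_lv : rangeAll (levOK n F dL3) 0 180 = true := by decide +kernel
theorem dL3_fx : fixOK F 9 3 [2, 1, 0] = true := by decide +kernel
theorem cL0_lv : rangeAll (levOK n F cL0) 0 1728 = true := by decide +kernel
theorem cL0_fx : fixOK F 18 2 [] = true := by decide +kernel
theorem cL0_cm : rangeAll (fun g => rangeAll (fun q => Nat.beq (F g (F 1 q)) (F 1 (F g q))) 0 1782) 18 2 = true := by decide +kernel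
theorem cL1_lv : rangeAll (levOK n F cL1) 0 640 = true := by decide +kernel
theorem cL1_fx : fixOK F 20 2 [0] = true := by decide +kernel
theorem cL1_cm : rangeAll (fun g => rangeAll (fun q => Nat.beq (F g (F 1 q)) (F 1 (F g q))) 0 1782) 20 2 = true := by decide +kernel
theorem cL2_lv : rangeAll (levOK n F cL2) 0 3 = true := by decide +kernel
theorem cL2_fx : fixOK F 22 2 [1, 0] = true := by decide +kernel
theorem cL2_cm : rangeAll (fun g => rangeAll (fun q => Nat.beq (F g (F 1 q)) (F 1 (F g q))) 0 1782) 22 2 = true := by decide +kernel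
theorem zinv_ck : rangeAll (fun g => rangeAll (fun q => Nat.beq (F g (F g q)) q) 0 1782) 32 8 = true := by decide +kernel
theorem b2_ck : rangeAll (fun q => Nat.beq (F 1 (F 1 q)) q) 0 1782 = true := by decide +kernel
theorem Ap_ck : rangeAll (fun q => Nat.beq (powA (F 0) 13 q) q) 0 1782 = true := by decide +kernel
theorem b1_ck : F 1 0 ≠ 0 := by decide +kernel
theorem A1_ck : F 0 0 ≠ 0 := by decide +kernel
theorem rel_ck : Core.allL (fun r => rangeAll (relAll (F 0) (F 1) r.1 r.2.1) 0 1782) rs = true := by decide +kernel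
theorem good_ck : Core.allL (fun x => Core.ifB (Nat.ble x.2 13) (goodOK F DD 0 13 Bs x)) goods = true := by decide +kernel
theorem cr_ck : rangeAll (fun q => Nat.beq (F 53 (F 0 q)) (powA (F 0) 4 (F 53 q))) 0 1782 = true := by decide +kernel

end Cfsg.Agent.Lib.PermComp.OutP.Suz
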