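import Cfsg.Agent.Lib.PermComp.OutP.Suz.Data

set_option autoImplicit false
set_option maxRecDepth 100000
set_option maxHeartbeats 0

namespace Cfsg.Agent.Lib.PermComp.OutP.Suz

open Cfsg Cfsg.Agent.Lib.PermComp.OutP
open Cfsg.Agent.Lib.PermComp.Core (force)
open Cfsg.Agent.Lib.PermComp.Kron (rangeAll rangeAll_spec)

theorem rc_c0 : rangeAll (rchk F 0 DD rs goodIdx) 0 8000 = true := by decide +kernel
theorem rc_c1 : rangeAll (rchk F 0 DD rs goodIdx) 8000 8000 = true := by decide +kernel
theorem rc_c2 : rangeAll (rchk F 0 DD rs goodIdx) 16000 8000 = true := by decide +kernel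
theorem rc_c3 : rangeAll (rchk F 0 DD rs goodIdx) 24000 8000 = true := by decide +kernel
theorem rc_c4 : rangeAll (rchk F 0 DD rs goodIdx) 32000 8000 = true := by decide +kernel
theorem rc_c5 : rangeAll (rchk F 0 DD rs goodIdx) 40000 8000 = true := by decide +kernel
theorem rc_c6 : rangeAll (rchk F 0 DD rs goodIdx) 48000 8000 = true := by decide +kernel
theorem rc_c7 : rangeAll (rchk F 0 DD rs goodIdx) 56000 8000 = true := by decide +kernel
theorem rc_c8 : rangeAll (rchk F 0 DD rs goodIdx) 64000 8000 = true := by decide +kernel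
theorem rc_c9 : rangeAll (rchk F 0 DD rs goodIdx) 72000 8000 = true := by decide +kernel
theorem rc_c10 : rangeAll (rchk F 0 DD rs goodIdx) 80000 8000 = true := by decide +kernel
theorem rc_c11 : rangeAll (rchk F 0 DD rs goodIdx) 88000 8000 = true := by decide +kernel
theorem rc_c12 : rangeAll (rchk F 0 DD rs goodIdx) 96000 8000 = true := by decide +kernel
theorem rc_c13 : rangeAll (rchk F 0 DD rs goodIdx) 104000 8000 = true := by decide +kernel
theorem rc_c14 : rangeAll (rchk F 0 DD rs goodIdx) 112000 8000 = true := by decide +kernel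
theorem rc_c15 : rangeAll (rchk F 0 DD rs goodIdx) 120000 8000 = true := by decide +kernel
theorem rc_c16 : rangeAll (rchk F 0 DD rs goodIdx) 128000 7135 = true := by decide +kernel

end Cfsg.Agent.Lib.PermComp.OutP.Suz
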