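import Cfsg.Agent.Lib.PermComp.OutP.Suz.Data

set_option autoImplicit false
set_option maxRecDepth 100000
set_option maxHeartbeats 0

namespace Cfsg.Agent.Lib.PermComp.OutP.Suz

open Cfsg Cfsg.Agent.Lib.PermComp.OutP
open Cfsg.Agent.Lib.PermComp.Core (force)
open Cfsg.Agent.Lib.PermComp.Kron (rangeAll rangeAll_spec)

theorem srt_c0 : sortR (fun i => DD.key n F i) 0 10000 = true := by decide +kernel
theorem srt_c1 : sortR (fun i => DD.key n F i) 10000 10000 = true := by decide +kernel
theorem srt_c2 : sortR (fun i => DD.key n F i) 20000 10000 = true := by decide +kernel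
theorem srt_c3 : sortR (fun i => DD.key n F i) 30000 10000 = true := by decide +kernel
theorem srt_c4 : sortR (fun i => DD.key n F i) 40000 10000 = true := by decide +kernel
theorem srt_c5 : sortR (fun i => DD.key n F i) 50000 10000 = true := by decide +kernel
theorem srt_c6 : sortR (fun i => DD.key n F i) 60000 10000 = true := by decide +kernel
theorem srt_c7 : sortR (fun i => DD.key n F i) 70000 10000 = true := by decide +kernel
theorem srt_c8 : sortR (fun i => DD.key n F i) 80000 10000 = true := by decide +kernel
theorem srt_c9 : sortR (fun i => DD.key n F i) 90000 10000 = true := by decide +kernel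
theorem srt_c10 : sortR (fun i => DD.key n F i) 100000 10000 = true := by decide +kernel
theorem srt_c11 : sortR (fun i => DD.key n F i) 110000 10000 = true := by decide +kernel
theorem srt_c12 : sortR (fun i => DD.key n F i) 120000 10000 = true := by decide +kernel
theorem srt_c13 : sortR (fun i => DD.key n F i) 130000 5134 = true := by decide +kernel
theorem srtO0_c0 : sortR (fun i => OO0.key n F i) 0 10000 = true := by decide +kernel
theorem srtO0_c1 : sortR (fun i => OO0.key n F i) 10000 10000 = true := by decide +kernel
theorem srtO0_c2 : sortR (fun i => OO0.key n F i) 20000 10000 = true := by decide +kernel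
theorem srtO0_c3 : sortR (fun i => OO0.key n F i) 30000 10000 = true := by decide +kernel
theorem srtO0_c4 : sortR (fun i => OO0.key n F i) 40000 10000 = true := by decide +kernel
theorem srtO0_c5 : sortR (fun i => OO0.key n F i) 50000 10000 = true := by decide +kernel
theorem srtO0_c6 : sortR (fun i => OO0.key n F i) 60000 10000 = true := by decide +kernel
theorem srtO0_c7 : sortR (fun i => OO0.key n F i) 70000 10000 = true := by decide +kernel
theorem srtO0_c8 : sortR (fun i => OO0.key n F i) 80000 10000 = true := by decide +kernel
theorem srtO0_c9 : sortR (fun i => OO0.key n F i) 90000 10000 = true := by decide +kernel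
theorem srtO0_c10 : sortR (fun i => OO0.key n F i) 100000 10000 = true := by decide +kernel
theorem srtO0_c11 : sortR (fun i => OO0.key n F i) 110000 10000 = true := by decide +kernel
theorem srtO0_c12 : sortR (fun i => OO0.key n F i) 120000 10000 = true := by decide +kernel
theorem srtO0_c13 : sortR (fun i => OO0.key n F i) 130000 5139 = true := by decide +kernel

end Cfsg.Agent.Lib.PermComp.OutP.Suz
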