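import Cfsg.Agent.Lib.PermComp.OutP.Master2
import Cfsg.Agent.Lib.PermComp.OutP.Suz.DataP0

set_option autoImplicit false
set_option maxRecDepth 100000
set_option maxHeartbeats 0

namespace Cfsg.Agent.Lib.PermComp.OutP.Suz

open Cfsg Cfsg.Agent.Lib.PermComp.OutP
open Cfsg.Agent.Lib.PermComp.Core (force)
open Cfsg.Agent.Lib.PermComp.Kron (rangeAll rangeAll_spec)

def n : Nat := 1782
def mF : Nat := 55
noncomputable def TT_T : Nat := (Nat.lor (Nat.lor (Nat.lor (Nat.lor (Nat.lor (Nat.lor TT_p0 (Nat.shiftLeft (Nat.lor TT_p1 (Nat.shiftLeft TT_p2 15994)) 15994)) (Nat.shiftLeft (Nat.lor TT_p3 (Nat.shiftLeft (Nat.lor TT_p4 (Nat.shiftLeft TT_p5 15994)) 15994)) 47982)) (Nat.shiftLeft (Nat.lor (Nat.lor TT_p6 (Nat.shiftLeft (Nat.lor TT_p7 (Nat.shiftLeft TT_p8 15994)) 15994)) (Nat.shiftLeft (Nat.lor TT_p9 (Nat.shiftLeft (Nat.lor TT_p10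 (Nat.shiftLeft TT_p11 15994)) 15994)) 47982)) 95964)) (Nat.shiftLeft (Nat.lor (Nat.lor (Nat.lor TT_p12 (Nat.shiftLeft (Nat.lor TT_p13 (Nat.shiftLeft TT_p14 15994)) 15994)) (Nat.shiftLeft (Nat.lor TT_p15 (Nat.shiftLeft (Nat.lor TT_p16 (Nat.shiftLeft TT_p17 15994)) 15994)) 47982)) (Nat.shiftLeft (Nat.lor (Nat.lor TT_p18 (Nat.shiftLeft (Nat.lor TT_p19 (Nat.shiftLeft TT_p20 15994)) 15994)) (Nat.shiftLeft (Nat.lor TT_p21 (Nat.shiftLeft (Nat.lor TT_p22 (Nat.shiftLeft TT_p23 15994)) 15994)) 47982)) 95964)) 191928)) (Nat.shiftLeft (Nat.lor (Nat.lor (Nat.lor (Nat.lor TT_p24 (Nat.shiftLeft (Nat.lor TT_p25 (Nat.shiftLeft TT_p26 15994)) 15994)) (Nat.shiftLeft (Nat.lor TT_p27 (Nat.shiftLeft (Nat.lor TT_p28 (Nat.shiftLeft TT_p29 15994)) 15994)) 47982)) (Nat.shiftLeft (Nat.lor (Nat.lor TT_p30 (Nat.shiftLeft (Nat.lor TT_p31 (Nat.shiftLeft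 TT_p32 15994)) 15994)) (Nat.shiftLeft (Nat.lor TT_p33 (Nat.shiftLeft (Nat.lor TT_p34 (Nat.shiftLeft TT_p35 15994)) 15994)) 47982)) 95964)) (Nat.shiftLeft (Nat.lor (Nat.lor (Nat.lor TT_p36 (Nat.shiftLeft (Nat.lor TT_p37 (Nat.shiftLeft TT_p38 15994)) 15994)) (Nat.shiftLeft (Nat.lor TT_p39 (Nat.shiftLeft (Nat.lor TT_p40 (Nat.shiftLeft TT_p41 15994)) 15994)) 47982)) (Nat.shiftLeft (Nat.lor (Nat.lor TT_p42 (Nat.shiftLeft (Nat.lor TT_p43 (Nat.shiftLeft TT_p44 15994)) 15994)) (Nat.shiftLeft (Nat.lor TT_p45 (Nat.shiftLeft (Nat.lor TT_p46 (Nat.shiftLeft TT_p47 15994)) 15994)) 47982)) 95964)) 191928)) 383856)) (Nat.shiftLeft (Nat.lor (Nat.lor (Nat.lor (Nat.lor (Nat.lor TT_p48 (Nat.shiftLeft (Nat.lor TT_p49 (Nat.shiftLeft TT_p50 15994)) 15994)) (Nat.shiftLeft (Nat.lor TT_p51 (Nat.shiftLeft (Nat.lor TT_p52 (Nat.shiftLeft TT_p53 15994))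 15994)) 47982)) (Nat.shiftLeft (Nat.lor (Nat.lor TT_p54 (Nat.shiftLeft (Nat.lor TT_p55 (Nat.shiftLeft TT_p56 15994)) 15994)) (Nat.shiftLeft (Nat.lor TT_p57 (Nat.shiftLeft (Nat.lor TT_p58 (Nat.shiftLeft TT_p59 15994)) 15994)) 47982)) 95964)) (Nat.shiftLeft (Nat.lor (Nat.lor (Nat.lor TT_p60 (Nat.shiftLeft (Nat.lor TT_p61 (Nat.shiftLeft TT_p62 15994)) 15994)) (Nat.shiftLeft (Nat.lor TT_p63 (Nat.shiftLeft (Nat.lor TT_p64 (Nat.shiftLeft TT_p65 15994)) 15994)) 47982)) (Nat.shiftLeft (Nat.lor (Nat.lor TT_p66 (Nat.shiftLeft (Nat.lor TT_p67 (Nat.shiftLeft TT_p68 15994)) 15994)) (Nat.shiftLeft (Nat.lor TT_p69 (Nat.shiftLeft (Nat.lor TT_p70 (Nat.shiftLeft TT_p71 15994)) 15994)) 47982)) 95964)) 191928)) (Nat.shiftLeft (Nat.lor (Nat.lor (Nat.lor (Nat.lor TT_p72 (Nat.shiftLeft (Nat.lor TT_p73 (Nat.shiftLeft TT_p74 15994)) 15994)) (Nat.shiftLeft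 (Nat.lor TT_p75 (Nat.shiftLeft (Nat.lor TT_p76 (Nat.shiftLeft TT_p77 15994)) 15994)) 47982)) (Nat.shiftLeft (Nat.lor (Nat.lor TT_p78 (Nat.shiftLeft (Nat.lor TT_p79 (Nat.shiftLeft TT_p80 15994)) 15994)) (Nat.shiftLeft (Nat.lor TT_p81 (Nat.shiftLeft (Nat.lor TT_p82 (Nat.shiftLeft TT_p83 15994)) 15994)) 47982)) 95964)) (Nat.shiftLeft (Nat.lor (Nat.lor (Nat.lor TT_p84 (Nat.shiftLeft (Nat.lor TT_p85 (Nat.shiftLeft TT_p86 15994)) 15994)) (Nat.shiftLeft (Nat.lor TT_p87 (Nat.shiftLeft (Nat.lor TT_p88 (Nat.shiftLeft TT_p89 15994)) 15994)) 47982)) (Nat.shiftLeft (Nat.lor (Nat.lor TT_p90 (Nat.shiftLeft (Nat.lor TT_p91 (Nat.shiftLeft TT_p92 15994)) 15994)) (Nat.shiftLeft (Nat.lor TT_p93 (Nat.shiftLeft (Nat.lor TT_p94 (Nat.shiftLeft TT_p95 15994)) 15994)) 47982)) 95964)) 191928)) 383856)) 767712))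
noncomputable def TT_M1 : Nat := Nat.sub (Nat.shiftLeft 1 180224) 1
noncomputable def TT_M2 : Nat := Nat.sub (Nat.shiftLeft 1 704) 1
noncomputable def TT (p : Nat) : Nat :=
  force (Nat.shiftRight p 14) fun b1 => force (Nat.land (Nat.shiftRight p 6) 255) fun b2 =>
    Nat.land (Nat.shiftRight (Nat.land (Nat.shiftRight (Nat.land (Nat.shiftRight TT_T (Nat.mul b1 180224)) TT_M1) (Nat.mul b2 704)) TT_M2) (Nat.mul (Nat.land p 63) 11)) 2047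

noncomputable def F (g p : Nat) : Nat := TT (Nat.add (Nat.mul g 1782) p)

def progL : List (List Nat) := [
  [],
  [],
  [1, 0, 1, 0, 0, 0, 0, 0, 0, 1, 0, 0, 0, 0, 0, 0, 1, 1, 1, 0, 0, 0, 1, 1, 1, 1, 1, 0, 1, 1, 1, 0, 0, 0],
  [0, 1, 0, 0, 1, 0, 0, 1, 0, 0, 0, 1, 0, 1, 0, 0, 0, 0, 0, 0, 0, 0, 1, 0, 1, 1, 1, 0, 1, 0, 0, 0, 1, 0, 1, 1, 1],
  [2, 3, 3, 3, 3, 3, 3, 3, 3, 3, 2, 3, 2, 2, 2, 3, 2, 3, 2, 2, 3, 3, 3, 2, 3, 2, 3, 2, 3, 3, 2],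
  [2, 2, 3, 2, 2, 2, 3, 2, 2, 3, 3, 3, 2, 3, 3, 2, 3, 2, 3, 2, 3, 3, 3, 2, 3, 3, 2, 3, 3, 3, 3, 3, 3, 3, 2],
  [2, 2, 3, 2, 3, 2, 2, 2, 2, 3, 2, 2, 2, 2, 2, 3, 2, 2, 3, 3, 2, 2, 3, 3, 2, 3, 3, 2, 2, 3, 2, 2, 3, 2, 2],
  [2, 2, 2, 3, 2, 3, 3, 2, 2, 3, 3, 2, 2, 2, 3, 3, 2, 2, 2, 2, 2, 3, 3, 2, 2, 2, 2, 3, 3, 2, 3, 3, 2, 3, 3, 2],
  [3, 3, 2, 3, 3, 2, 2, 3, 2, 2, 3, 3, 2, 2, 3, 2, 3, 3, 3, 3, 2, 2, 3, 2, 2, 3, 2, 3, 3, 2, 3, 3, 2, 2, 3],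
  [5, 8, 4, 5, 5, 6, 6, 7, 6, 8, 6, 8, 8, 6, 8, 5, 6, 8, 8, 5, 4, 7, 4, 5, 4, 4, 6, 4, 4],
  [7, 6, 5, 6, 6, 4, 5, 4, 5, 8, 5, 6, 4, 7, 5, 8, 4, 5, 7, 4, 4, 8, 7, 8, 8, 7, 6, 5, 7],
  [4, 4, 5, 8, 5, 5, 8, 5, 8, 5, 7, 8, 7, 7, 8, 4, 8, 5, 8, 6, 6, 5, 4, 8, 4, 6, 6, 7],
  [0, 1, 0, 0, 1, 0, 1, 0, 0, 1, 0, 0, 1, 1, 1, 0, 0, 1, 0, 0, 0, 0, 1, 0],
  [12, 12, 12, 12, 12, 12, 12, 12, 12, 12, 12, 12, 12, 12, 12, 12, 12, 12, 12],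
  [1, 13, 1, 12],
  [1, 1, 1, 1, 0, 0, 0, 1, 0, 1, 1, 0, 1, 0, 0, 1, 1, 1, 0, 0, 0, 1, 1, 0],
  [15, 15, 15, 15, 15, 15, 15, 15, 15, 15, 15],
  [1, 16, 1, 15],
  [12, 14, 14],
  [15, 17],
  [18, 18, 19, 18, 18, 19, 19, 18, 18, 19, 19, 18, 19, 19, 18, 19, 19, 18, 19, 18, 19, 19, 19, 19, 19, 19, 18, 18, 18, 18, 18, 19, 19, 18],
  [18, 18, 19, 18, 18, 19, 18, 19, 19, 19, 19, 18, 18, 18, 18, 18, 19, 18, 18, 19, 18, 18, 19, 19, 18, 19, 18, 18, 18, 18, 19, 19, 19, 18],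
  [20, 21, 20, 21, 20, 20, 21, 20, 21, 21, 21, 21, 20, 21, 21, 21, 21, 21, 21, 20, 21, 20, 21, 20, 21, 21, 20, 20, 21],
  [21, 20, 21, 20, 21, 21, 20, 20, 21, 20, 21, 21, 21, 20, 20, 21, 21, 21, 21, 20, 20, 20, 20, 21, 20, 20, 20, 20, 20, 21, 20, 21, 20, 20],
  [0, 0, 0, 1, 0, 1, 0, 0, 0, 1, 0, 1, 1, 1, 0, 1, 1, 0, 0, 0, 1, 0, 0, 1],
  [1, 1, 0, 1, 0, 0, 1, 1, 0, 1, 1, 1, 1, 0, 1, 1, 1, 1, 1, 1, 0, 1, 0, 0],
  [0, 0, 1, 0, 1, 0, 0, 0, 1, 0, 1, 1, 1, 0, 0, 0, 0, 1, 1, 0, 1, 1, 1, 1],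
  [0, 0, 0, 0, 0, 1, 1, 1, 1, 0, 1, 1, 1, 1, 0, 1, 1, 1, 1, 0, 0, 1, 0, 1],
  [1, 1, 1, 1, 0, 1, 0, 1, 1, 1, 0, 0, 1, 0, 1, 1, 0, 0, 1, 0, 0, 1, 0, 0],
  [1, 0, 1, 0, 1, 0, 1, 0, 1, 0, 1, 1, 0, 1, 0, 1, 1, 1, 1, 0, 0, 0, 0, 0],
  [0, 0, 1, 0, 0, 0, 0, 0, 0, 1, 0, 1, 1, 0, 0, 1, 1, 1, 0, 1, 1, 0, 0, 1],
  [1, 0, 1, 1, 1, 1, 0, 1, 1, 1, 1, 0, 1, 1, 0, 0, 1, 0, 1, 1, 0, 0, 0, 0],
  [24, 24, 24, 24],
  [25, 25, 25, 25, 25],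
  [26, 26, 26, 26, 26],
  [27, 27, 27, 27, 27, 27, 27, 27, 27, 27],
  [28, 28, 28, 28, 28, 28, 28],
  [29, 29, 29, 29, 29, 29, 29, 29, 29],
  [30, 30, 30, 30, 30, 30, 30, 30, 30],
  [31, 31, 31, 31, 31],
  [9, 11, 11, 11, 6, 4, 8, 8, 8],
  [10, 10, 10, 11, 9, 11, 5, 7, 4, 5],
  [11, 9, 10, 7, 8, 7, 3, 2, 3, 3, 2, 3, 3, 2, 3, 3, 3],
  [10, 11, 10, 11, 4, 4, 4, 8, 2, 2, 3, 3, 2, 2, 3, 3, 2, 2, 3, 3],
  [10, 11, 10, 4, 7, 8, 8, 6, 3, 2, 2, 3, 2, 3, 2, 3, 2, 3, 3],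
  [10, 10, 9, 9, 9, 8, 6, 4, 7, 3, 3, 3, 3, 3, 3, 3, 2, 3],
  [10, 10, 10, 9, 9, 4, 4, 8, 6, 7, 3, 2, 3, 3, 3, 2, 3, 3, 2, 3],
  [9, 9, 9, 10, 10, 6, 6, 8, 6, 8, 2, 2, 2, 3, 3, 3, 2, 2, 3, 3, 2],
  [11, 10, 10, 11, 8, 4, 7, 6, 6, 2, 2, 3, 3, 3, 3, 2, 2, 3, 2],
  [9, 11, 10, 11, 9, 7, 8, 8, 5, 2, 2, 3, 2, 2, 3, 3, 0, 0, 1, 0, 0, 0, 0, 0, 1, 0, 1, 0, 0, 0, 0],
  [9, 9, 11, 10, 10, 11, 5, 5, 7, 8, 4, 2, 3, 3, 3, 2, 3, 2, 3, 2, 2, 0, 0, 0, 0, 1, 0, 0, 0, 0, 0, 1, 0, 0, 0, 0, 1],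
  [9, 9, 10, 11, 10, 7, 4, 6, 8, 3, 2, 3, 2, 3, 3, 0, 0, 1, 0, 0, 0, 1, 0, 0, 1, 0, 0, 0, 1, 0, 1, 0],
  [9, 11, 11, 11, 11, 4, 5, 4, 6, 6, 2, 2, 2, 2, 2, 3, 3, 2, 3, 3, 3, 3, 0, 1, 0, 0, 0, 0, 0, 1, 0, 0, 0, 0],
  [10, 11, 9, 10, 10, 4, 5, 4, 4, 4, 3, 2, 2, 3, 2, 3, 3, 2, 3, 3, 3, 0, 1, 0, 0, 1, 0, 1, 0, 0, 1, 0],
  [40]]
def prog (g : Nat) : List Nat := progL.getD g []

def prog2L : List (List Nat) := [
  [],
  [],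
  [],
  [],
  [],
  [],
  [],
  [56, 60, 58, 58, 60, 59, 56, 55, 55, 59, 59, 59, 60, 55, 57, 58, 55, 61, 60, 55, 59, 56, 57, 55, 61, 55, 56, 58, 55, 58, 58, 57, 60, 57, 57, 58, 55, 57, 59, 56],
  [62],
  [58, 58, 58, 60, 59, 55, 55, 56, 59, 55, 56, 58, 56, 59, 56, 59, 59, 61, 59, 60, 59, 59, 58, 60],
  [64, 64, 64, 64, 64],
  [57, 55, 58, 57, 55, 60, 59, 57, 55, 61, 56, 58, 59, 61, 59, 61, 59, 58, 58, 57, 60, 59, 55, 57],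
  [66, 66, 66, 66, 66],
  [56, 61, 59, 59, 58, 59, 58, 55, 58, 55, 59, 60, 58, 60, 61, 56, 61, 61, 60, 59, 58, 58, 55, 58],
  [68, 68, 68],
  [58, 56, 61, 61, 60, 59, 60, 58, 55, 60, 61, 55, 59, 60, 59, 57, 61, 56, 55, 59, 57, 56, 55, 61],
  [70, 70, 70, 70, 70],
  [61, 57, 59, 57, 60, 61, 57, 58, 61, 60, 60, 61, 60, 57, 59, 56, 57, 61, 55, 61, 55, 60, 57, 56],
  [72, 72, 72, 72],
  [65, 67, 69, 71, 69, 73, 69, 71, 69, 67, 65]]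
def prog2 (g : Nat) : List Nat := prog2L.getD (g - 55) []

noncomputable def dL0_pt_T : Nat := (Nat.lor dL0_pt_p0 (Nat.shiftLeft dL0_pt_p1 15994))
noncomputable def dL0_pt_M1 : Nat := Nat.sub (Nat.shiftLeft 1 45056) 1
noncomputable def dL0_pt_M2 : Nat := Nat.sub (Nat.shiftLeft 1 352) 1
noncomputable def dL0_pt (p : Nat) : Nat :=
  force (Nat.shiftRight p 12) fun b1 => force (Nat.land (Nat.shiftRight p 5) 127) fun b2 =>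
    Nat.land (Nat.shiftRight (Nat.land (Nat.shiftRight (Nat.land (Nat.shiftRight dL0_pt_T (Nat.mul b1 45056)) dL0_pt_M1) (Nat.mul b2 352)) dL0_pt_M2) (Nat.mul (Nat.land p 31) 11)) 2047

noncomputable def dL0_pi_T : Nat := (Nat.lor dL0_pi_p0 (Nat.shiftLeft dL0_pi_p1 15994))
noncomputable def dL0_pi_M1 : Nat := Nat.sub (Nat.shiftLeft 1 45056) 1
noncomputable def dL0_pi_M2 : Nat := Nat.sub (Nat.shiftLeft 1 352) 1
noncomputable def dL0_pi (p : Nat) : Nat :=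
  force (Nat.shiftRight p 12) fun b1 => force (Nat.land (Nat.shiftRight p 5) 127) fun b2 =>
    Nat.land (Nat.shiftRight (Nat.land (Nat.shiftRight (Nat.land (Nat.shiftRight dL0_pi_T (Nat.mul b1 45056)) dL0_pi_M1) (Nat.mul b2 352)) dL0_pi_M2) (Nat.mul (Nat.land p 31) 11)) 2047

noncomputable def dL0_tr_T : Nat := (Nat.lor dL0_tr_p0 (Nat.shiftLeft dL0_tr_p1 15996))
noncomputable def dL0_tr_M1 : Nat := Nat.sub (Nat.shiftLeft 1 49152) 1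
noncomputable def dL0_tr_M2 : Nat := Nat.sub (Nat.shiftLeft 1 384) 1
noncomputable def dL0_tr (p : Nat) : Nat :=
  force (Nat.shiftRight p 12) fun b1 => force (Nat.land (Nat.shiftRight p 5) 127) fun b2 =>
    Nat.land (Nat.shiftRight (Nat.land (Nat.shiftRight (Nat.land (Nat.shiftRight dL0_tr_T (Nat.mul b1 49152)) dL0_tr_M1) (Nat.mul b2 384)) dL0_tr_M2) (Nat.mul (Nat.land p 31) 12)) 4095

noncomputable def dL0 : LevD := ⟨0, 1782, 2, 0, dL0_pt, dL0_pi, dL0_tr⟩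

noncomputable def dL1_pt_T : Nat := dL1_pt_p0
noncomputable def dL1_pt_M1 : Nat := Nat.sub (Nat.shiftLeft 1 45056) 1
noncomputable def dL1_pt_M2 : Nat := Nat.sub (Nat.shiftLeft 1 352) 1
noncomputable def dL1_pt (p : Nat) : Nat :=
  force (Nat.shiftRight p 12) fun b1 => force (Nat.land (Nat.shiftRight p 5) 127) fun b2 =>
    Nat.land (Nat.shiftRight (Nat.land (Nat.shiftRight (Nat.land (Nat.shiftRight dL1_pt_T (Nat.mul b1 45056)) dL1_pt_M1) (Nat.mul b2 352)) dL1_pt_M2) (Nat.mul (Nat.land p 31) 11)) 2047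

noncomputable def dL1_pi_T : Nat := (Nat.lor dL1_pi_p0 (Nat.shiftLeft dL1_pi_p1 15994))
noncomputable def dL1_pi_M1 : Nat := Nat.sub (Nat.shiftLeft 1 45056) 1
noncomputable def dL1_pi_M2 : Nat := Nat.sub (Nat.shiftLeft 1 352) 1
noncomputable def dL1_pi (p : Nat) : Nat :=
  force (Nat.shiftRight p 12) fun b1 => force (Nat.land (Nat.shiftRight p 5) 127) fun b2 =>
    Nat.land (Nat.shiftRight (Nat.land (Nat.shiftRight (Nat.land (Nat.shiftRight dL1_pi_T (Nat.mul b1 45056)) dL1_pi_M1) (Nat.mul b2 352)) dL1_pi_M2) (Nat.mul (Nat.land p 31) 11)) 2047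

noncomputable def dL1_tr_T : Nat := (Nat.lor dL1_tr_p0 (Nat.shiftLeft dL1_tr_p1 15996))
noncomputable def dL1_tr_M1 : Nat := Nat.sub (Nat.shiftLeft 1 49152) 1
noncomputable def dL1_tr_M2 : Nat := Nat.sub (Nat.shiftLeft 1 384) 1
noncomputable def dL1_tr (p : Nat) : Nat :=
  force (Nat.shiftRight p 12) fun b1 => force (Nat.land (Nat.shiftRight p 5) 127) fun b2 =>
    Nat.land (Nat.shiftRight (Nat.land (Nat.shiftRight (Nat.land (Nat.shiftRight dL1_tr_T (Nat.mul b1 49152)) dL1_tr_M1) (Nat.mul b2 384)) dL1_tr_M2) (Nat.mul (Nat.land p 31) 12)) 4095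

noncomputable def dL1 : LevD := ⟨1, 1365, 2, 2, dL1_pt, dL1_pi, dL1_tr⟩

noncomputable def dL2_pt_T : Nat := dL2_pt_p0
noncomputable def dL2_pt_M1 : Nat := Nat.sub (Nat.shiftLeft 1 45056) 1
noncomputable def dL2_pt_M2 : Nat := Nat.sub (Nat.shiftLeft 1 352) 1
noncomputable def dL2_pt (p : Nat) : Nat :=
  force (Nat.shiftRight p 12) fun b1 => force (Nat.land (Nat.shiftRight p 5) 127) fun b2 =>
    Nat.land (Nat.shiftRight (Nat.land (Nat.shiftRight (Nat.land (Nat.shiftRight dL2_pt_T (Nat.mul b1 45056)) dL2_pt_M1) (Nat.mul b2 352)) dL2_pt_M2) (Nat.mul (Nat.land p 31) 11)) 2047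

noncomputable def dL2_pi_T : Nat := (Nat.lor dL2_pi_p0 (Nat.shiftLeft dL2_pi_p1 15994))
noncomputable def dL2_pi_M1 : Nat := Nat.sub (Nat.shiftLeft 1 45056) 1
noncomputable def dL2_pi_M2 : Nat := Nat.sub (Nat.shiftLeft 1 352) 1
noncomputable def dL2_pi (p : Nat) : Nat :=
  force (Nat.shiftRight p 12) fun b1 => force (Nat.land (Nat.shiftRight p 5) 127) fun b2 =>
    Nat.land (Nat.shiftRight (Nat.land (Nat.shiftRight (Nat.land (Nat.shiftRight dL2_pi_T (Nat.mul b1 45056)) dL2_pi_M1) (Nat.mul b2 352)) dL2_pi_M2) (Nat.mul (Nat.land p 31) 11)) 2047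

noncomputable def dL2_tr_T : Nat := dL2_tr_p0
noncomputable def dL2_tr_M1 : Nat := Nat.sub (Nat.shiftLeft 1 53248) 1
noncomputable def dL2_tr_M2 : Nat := Nat.sub (Nat.shiftLeft 1 416) 1
noncomputable def dL2_tr (p : Nat) : Nat :=
  force (Nat.shiftRight p 12) fun b1 => force (Nat.land (Nat.shiftRight p 5) 127) fun b2 =>
    Nat.land (Nat.shiftRight (Nat.land (Nat.shiftRight (Nat.land (Nat.shiftRight dL2_tr_T (Nat.mul b1 53248)) dL2_tr_M1) (Nat.mul b2 416)) dL2_tr_M2) (Nat.mul (Nat.land p 31) 13)) 8191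

noncomputable def dL2 : LevD := ⟨2, 1024, 5, 4, dL2_pt, dL2_pi, dL2_tr⟩

noncomputable def dL3_pt_T : Nat := dL3_pt_p0
noncomputable def dL3_pt_M1 : Nat := Nat.sub (Nat.shiftLeft 1 45056) 1
noncomputable def dL3_pt_M2 : Nat := Nat.sub (Nat.shiftLeft 1 352) 1
noncomputable def dL3_pt (p : Nat) : Nat :=
  force (Nat.shiftRight p 12) fun b1 => force (Nat.land (Nat.shiftRight p 5) 127) fun b2 =>
    Nat.land (Nat.shiftRight (Nat.land (Nat.shiftRight (Nat.land (Nat.shiftRight dL3_pt_T (Nat.mul b1 45056)) dL3_pt_M1) (Nat.mul b2 352)) dL3_pt_M2) (Nat.mul (Nat.land p 31) 11)) 2047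

noncomputable def dL3_pi_T : Nat := dL3_pi_p0
noncomputable def dL3_pi_M1 : Nat := Nat.sub (Nat.shiftLeft 1 32768) 1
noncomputable def dL3_pi_M2 : Nat := Nat.sub (Nat.shiftLeft 1 256) 1
noncomputable def dL3_pi (p : Nat) : Nat :=
  force (Nat.shiftRight p 12) fun b1 => force (Nat.land (Nat.shiftRight p 5) 127) fun b2 =>
    Nat.land (Nat.shiftRight (Nat.land (Nat.shiftRight (Nat.land (Nat.shiftRight dL3_pi_T (Nat.mul b1 32768)) dL3_pi_M1) (Nat.mul b2 256)) dL3_pi_M2) (Nat.mul (Nat.land p 31) 8)) 255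

noncomputable def dL3_tr_T : Nat := dL3_tr_p0
noncomputable def dL3_tr_M1 : Nat := Nat.sub (Nat.shiftLeft 1 36864) 1
noncomputable def dL3_tr_M2 : Nat := Nat.sub (Nat.shiftLeft 1 288) 1
noncomputable def dL3_tr (p : Nat) : Nat :=
  force (Nat.shiftRight p 12) fun b1 => force (Nat.land (Nat.shiftRight p 5) 127) fun b2 =>
    Nat.land (Nat.shiftRight (Nat.land (Nat.shiftRight (Nat.land (Nat.shiftRight dL3_tr_T (Nat.mul b1 36864)) dL3_tr_M1) (Nat.mul b2 288)) dL3_tr_M2) (Nat.mul (Nat.land p 31) 9)) 511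

noncomputable def dL3 : LevD := ⟨160, 180, 3, 9, dL3_pt, dL3_pi, dL3_tr⟩

noncomputable def cL0_pt_T : Nat := (Nat.lor cL0_pt_p0 (Nat.shiftLeft cL0_pt_p1 15994))
noncomputable def cL0_pt_M1 : Nat := Nat.sub (Nat.shiftLeft 1 45056) 1
noncomputable def cL0_pt_M2 : Nat := Nat.sub (Nat.shiftLeft 1 352) 1
noncomputable def cL0_pt (p : Nat) : Nat :=
  force (Nat.shiftRight p 12) fun b1 => force (Nat.land (Nat.shiftRight p 5) 127) fun b2 =>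
    Nat.land (Nat.shiftRight (Nat.land (Nat.shiftRight (Nat.land (Nat.shiftRight cL0_pt_T (Nat.mul b1 45056)) cL0_pt_M1) (Nat.mul b2 352)) cL0_pt_M2) (Nat.mul (Nat.land p 31) 11)) 2047

noncomputable def cL0_pi_T : Nat := (Nat.lor cL0_pi_p0 (Nat.shiftLeft cL0_pi_p1 15994))
noncomputable def cL0_pi_M1 : Nat := Nat.sub (Nat.shiftLeft 1 45056) 1
noncomputable def cL0_pi_M2 : Nat := Nat.sub (Nat.shiftLeft 1 352) 1
noncomputable def cL0_pi (p : Nat) : Nat :=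
  force (Nat.shiftRight p 12) fun b1 => force (Nat.land (Nat.shiftRight p 5) 127) fun b2 =>
    Nat.land (Nat.shiftRight (Nat.land (Nat.shiftRight (Nat.land (Nat.shiftRight cL0_pi_T (Nat.mul b1 45056)) cL0_pi_M1) (Nat.mul b2 352)) cL0_pi_M2) (Nat.mul (Nat.land p 31) 11)) 2047

noncomputable def cL0_tr_T : Nat := (Nat.lor cL0_tr_p0 (Nat.shiftLeft cL0_tr_p1 15996))
noncomputable def cL0_tr_M1 : Nat := Nat.sub (Nat.shiftLeft 1 49152) 1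
noncomputable def cL0_tr_M2 : Nat := Nat.sub (Nat.shiftLeft 1 384) 1
noncomputable def cL0_tr (p : Nat) : Nat :=
  force (Nat.shiftRight p 12) fun b1 => force (Nat.land (Nat.shiftRight p 5) 127) fun b2 =>
    Nat.land (Nat.shiftRight (Nat.land (Nat.shiftRight (Nat.land (Nat.shiftRight cL0_tr_T (Nat.mul b1 49152)) cL0_tr_M1) (Nat.mul b2 384)) cL0_tr_M2) (Nat.mul (Nat.land p 31) 12)) 4095

noncomputable def cL0 : LevD := ⟨0, 1728, 2, 18, cL0_pt, cL0_pi, cL0_tr⟩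

noncomputable def cL1_pt_T : Nat := cL1_pt_p0
noncomputable def cL1_pt_M1 : Nat := Nat.sub (Nat.shiftLeft 1 45056) 1
noncomputable def cL1_pt_M2 : Nat := Nat.sub (Nat.shiftLeft 1 352) 1
noncomputable def cL1_pt (p : Nat) : Nat :=
  force (Nat.shiftRight p 12) fun b1 => force (Nat.land (Nat.shiftRight p 5) 127) fun b2 =>
    Nat.land (Nat.shiftRight (Nat.land (Nat.shiftRight (Nat.land (Nat.shiftRight cL1_pt_T (Nat.mul b1 45056)) cL1_pt_M1) (Nat.mul b2 352)) cL1_pt_M2) (Nat.mul (Nat.land p 31) 11)) 2047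

noncomputable def cL1_pi_T : Nat := (Nat.lor cL1_pi_p0 (Nat.shiftLeft cL1_pi_p1 16000))
noncomputable def cL1_pi_M1 : Nat := Nat.sub (Nat.shiftLeft 1 40960) 1
noncomputable def cL1_pi_M2 : Nat := Nat.sub (Nat.shiftLeft 1 320) 1
noncomputable def cL1_pi (p : Nat) : Nat :=
  force (Nat.shiftRight p 12) fun b1 => force (Nat.land (Nat.shiftRight p 5) 127) fun b2 =>
    Nat.land (Nat.shiftRight (Nat.land (Nat.shiftRight (Nat.land (Nat.shiftRight cL1_pi_T (Nat.mul b1 40960)) cL1_pi_M1) (Nat.mul b2 320)) cL1_pi_M2) (Nat.mul (Nat.land p 31) 10)) 1023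

noncomputable def cL1_tr_T : Nat := cL1_tr_p0
noncomputable def cL1_tr_M1 : Nat := Nat.sub (Nat.shiftLeft 1 45056) 1
noncomputable def cL1_tr_M2 : Nat := Nat.sub (Nat.shiftLeft 1 352) 1
noncomputable def cL1_tr (p : Nat) : Nat :=
  force (Nat.shiftRight p 12) fun b1 => force (Nat.land (Nat.shiftRight p 5) 127) fun b2 =>
    Nat.land (Nat.shiftRight (Nat.land (Nat.shiftRight (Nat.land (Nat.shiftRight cL1_tr_T (Nat.mul b1 45056)) cL1_tr_M1) (Nat.mul b2 352)) cL1_tr_M2) (Nat.mul (Nat.land p 31) 11)) 2047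

noncomputable def cL1 : LevD := ⟨1, 640, 2, 20, cL1_pt, cL1_pi, cL1_tr⟩

noncomputable def cL2_pt_T : Nat := cL2_pt_p0
noncomputable def cL2_pt_M1 : Nat := Nat.sub (Nat.shiftLeft 1 45056) 1
noncomputable def cL2_pt_M2 : Nat := Nat.sub (Nat.shiftLeft 1 352) 1
noncomputable def cL2_pt (p : Nat) : Nat :=
  force (Nat.shiftRight p 12) fun b1 => force (Nat.land (Nat.shiftRight p 5) 127) fun b2 =>
    Nat.land (Nat.shiftRight (Nat.land (Nat.shiftRight (Nat.land (Nat.shiftRight cL2_pt_T (Nat.mul b1 45056)) cL2_pt_M1) (Nat.mul b2 352)) cL2_pt_M2) (Nat.mul (Nat.land p 31) 11)) 2047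

noncomputable def cL2_pi_T : Nat := cL2_pi_p0
noncomputable def cL2_pi_M1 : Nat := Nat.sub (Nat.shiftLeft 1 8192) 1
noncomputable def cL2_pi_M2 : Nat := Nat.sub (Nat.shiftLeft 1 64) 1
noncomputable def cL2_pi (p : Nat) : Nat :=
  force (Nat.shiftRight p 12) fun b1 => force (Nat.land (Nat.shiftRight p 5) 127) fun b2 =>
    Nat.land (Nat.shiftRight (Nat.land (Nat.shiftRight (Nat.land (Nat.shiftRight cL2_pi_T (Nat.mul b1 8192)) cL2_pi_M1) (Nat.mul b2 64)) cL2_pi_M2) (Nat.mul (Nat.land p 31) 2)) 3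

noncomputable def cL2_tr_T : Nat := cL2_tr_p0
noncomputable def cL2_tr_M1 : Nat := Nat.sub (Nat.shiftLeft 1 8192) 1
noncomputable def cL2_tr_M2 : Nat := Nat.sub (Nat.shiftLeft 1 64) 1
noncomputable def cL2_tr (p : Nat) : Nat :=
  force (Nat.shiftRight p 12) fun b1 => force (Nat.land (Nat.shiftRight p 5) 127) fun b2 =>
    Nat.land (Nat.shiftRight (Nat.land (Nat.shiftRight (Nat.land (Nat.shiftRight cL2_tr_T (Nat.mul b1 8192)) cL2_tr_M1) (Nat.mul b2 64)) cL2_tr_M2) (Nat.mul (Nat.land p 31) 2)) 3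

noncomputable def cL2 : LevD := ⟨2, 3, 2, 22, cL2_pt, cL2_pi, cL2_tr⟩

noncomputable def ds : List LevD := [dL0, dL1, dL2, dL3]
noncomputable def cs : List LevD := [cL0, cL1, cL2]

noncomputable def FPL_T : Nat := (Nat.lor (Nat.lor (Nat.lor (Nat.lor (Nat.lor (Nat.lor (Nat.lor FPL_p0 (Nat.shiftLeft FPL_p1 15981)) (Nat.shiftLeft (Nat.lor FPL_p2 (Nat.shiftLeft (Nat.lor FPL_p3 (Nat.shiftLeft FPL_p4 15981)) 15981)) 31962)) (Nat.shiftLeft (Nat.lor (Nat.lor FPL_p5 (Nat.shiftLeft (Nat.lor FPL_p6 (Nat.shiftLeft FPL_p7 15981)) 15981)) (Nat.shiftLeft (Nat.lor FPL_p8 (Nat.shiftLeft (Nat.lor FPL_p9 (Nat.shiftLeft FPL_p10 15981)) 15981)) 47943)) 79905)) (Nat.shiftLeft (Nat.lor (Nat.lor (Nat.lor FPL_p11 (Nat.shiftLeft FPL_p12 15981)) (Nat.shiftLeft (Nat.lor FPL_p13 (Nat.shiftLeft (Nat.lor FPL_p14 (Nat.shiftLeft FPL_p15 15981)) 15981)) 31962))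 (Nat.shiftLeft (Nat.lor (Nat.lor FPL_p16 (Nat.shiftLeft (Nat.lor FPL_p17 (Nat.shiftLeft FPL_p18 15981)) 15981)) (Nat.shiftLeft (Nat.lor FPL_p19 (Nat.shiftLeft (Nat.lor FPL_p20 (Nat.shiftLeft FPL_p21 15981)) 15981)) 47943)) 79905)) 175791)) (Nat.shiftLeft (Nat.lor (Nat.lor (Nat.lor (Nat.lor FPL_p22 (Nat.shiftLeft FPL_p23 15981)) (Nat.shiftLeft (Nat.lor FPL_p24 (Nat.shiftLeft (Nat.lor FPL_p25 (Nat.shiftLeft FPL_p26 15981)) 15981)) 31962)) (Nat.shiftLeft (Nat.lor (Nat.lor FPL_p27 (Nat.shiftLeft (Nat.lor FPL_p28 (Nat.shiftLeft FPL_p29 15981)) 15981)) (Nat.shiftLeft (Nat.lor FPL_p30 (Nat.shiftLeft (Nat.lor FPL_p31 (Nat.shiftLeft FPL_p32 15981)) 15981)) 47943)) 79905)) (Nat.shiftLeft (Nat.lor (Nat.lor (Nat.lor FPL_p33 (Nat.shiftLeft FPL_p34 15981)) (Nat.shiftLeft (Nat.lor FPL_p35 (Nat.shiftLeft (Nat.lor FPL_p36 (Nat.shiftLeft FPL_p37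 15981)) 15981)) 31962)) (Nat.shiftLeft (Nat.lor (Nat.lor FPL_p38 (Nat.shiftLeft (Nat.lor FPL_p39 (Nat.shiftLeft FPL_p40 15981)) 15981)) (Nat.shiftLeft (Nat.lor FPL_p41 (Nat.shiftLeft (Nat.lor FPL_p42 (Nat.shiftLeft FPL_p43 15981)) 15981)) 47943)) 79905)) 175791)) 351582)) (Nat.shiftLeft (Nat.lor (Nat.lor (Nat.lor (Nat.lor (Nat.lor FPL_p44 (Nat.shiftLeft FPL_p45 15981)) (Nat.shiftLeft (Nat.lor FPL_p46 (Nat.shiftLeft (Nat.lor FPL_p47 (Nat.shiftLeft FPL_p48 15981)) 15981)) 31962)) (Nat.shiftLeft (Nat.lor (Nat.lor FPL_p49 (Nat.shiftLeft (Nat.lor FPL_p50 (Nat.shiftLeft FPL_p51 15981)) 15981)) (Nat.shiftLeft (Nat.lor FPL_p52 (Nat.shiftLeft (Nat.lor FPL_p53 (Nat.shiftLeft FPL_p54 15981)) 15981)) 47943)) 79905)) (Nat.shiftLeft (Nat.lor (Nat.lor (Nat.lor FPL_p55 (Nat.shiftLeft FPL_p56 15981)) (Nat.shiftLeft (Nat.lor FPL_p57 (Nat.shiftLeft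 (Nat.lor FPL_p58 (Nat.shiftLeft FPL_p59 15981)) 15981)) 31962)) (Nat.shiftLeft (Nat.lor (Nat.lor FPL_p60 (Nat.shiftLeft (Nat.lor FPL_p61 (Nat.shiftLeft FPL_p62 15981)) 15981)) (Nat.shiftLeft (Nat.lor FPL_p63 (Nat.shiftLeft (Nat.lor FPL_p64 (Nat.shiftLeft FPL_p65 15981)) 15981)) 47943)) 79905)) 175791)) (Nat.shiftLeft (Nat.lor (Nat.lor (Nat.lor (Nat.lor FPL_p66 (Nat.shiftLeft FPL_p67 15981)) (Nat.shiftLeft (Nat.lor FPL_p68 (Nat.shiftLeft (Nat.lor FPL_p69 (Nat.shiftLeft FPL_p70 15981)) 15981)) 31962)) (Nat.shiftLeft (Nat.lor (Nat.lor FPL_p71 (Nat.shiftLeft (Nat.lor FPL_p72 (Nat.shiftLeft FPL_p73 15981)) 15981)) (Nat.shiftLeft (Nat.lor FPL_p74 (Nat.shiftLeft (Nat.lor FPL_p75 (Nat.shiftLeft FPL_p76 15981)) 15981)) 47943)) 79905)) (Nat.shiftLeft (Nat.lor (Nat.lor (Nat.lor FPL_p77 (Nat.shiftLeft (Nat.lor FPL_p78 (Nat.shiftLeft FPL_p79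 15981)) 15981)) (Nat.shiftLeft (Nat.lor FPL_p80 (Nat.shiftLeft (Nat.lor FPL_p81 (Nat.shiftLeft FPL_p82 15981)) 15981)) 47943)) (Nat.shiftLeft (Nat.lor (Nat.lor FPL_p83 (Nat.shiftLeft (Nat.lor FPL_p84 (Nat.shiftLeft FPL_p85 15981)) 15981)) (Nat.shiftLeft (Nat.lor FPL_p86 (Nat.shiftLeft (Nat.lor FPL_p87 (Nat.shiftLeft FPL_p88 15981)) 15981)) 47943)) 95886)) 175791)) 351582)) 703164)) (Nat.shiftLeft (Nat.lor (Nat.lor (Nat.lor (Nat.lor (Nat.lor (Nat.lor FPL_p89 (Nat.shiftLeft FPL_p90 15981)) (Nat.shiftLeft (Nat.lor FPL_p91 (Nat.shiftLeft (Nat.lor FPL_p92 (Nat.shiftLeft FPL_p93 15981)) 15981)) 31962)) (Nat.shiftLeft (Nat.lor (Nat.lor FPL_p94 (Nat.shiftLeft (Nat.lor FPL_p95 (Nat.shiftLeft FPL_p96 15981)) 15981)) (Nat.shiftLeft (Nat.lor FPL_p97 (Nat.shiftLeft (Nat.lor FPL_p98 (Nat.shiftLeft FPL_p99 15981)) 15981)) 47943)) 79905))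 (Nat.shiftLeft (Nat.lor (Nat.lor (Nat.lor FPL_p100 (Nat.shiftLeft FPL_p101 15981)) (Nat.shiftLeft (Nat.lor FPL_p102 (Nat.shiftLeft (Nat.lor FPL_p103 (Nat.shiftLeft FPL_p104 15981)) 15981)) 31962)) (Nat.shiftLeft (Nat.lor (Nat.lor FPL_p105 (Nat.shiftLeft (Nat.lor FPL_p106 (Nat.shiftLeft FPL_p107 15981)) 15981)) (Nat.shiftLeft (Nat.lor FPL_p108 (Nat.shiftLeft (Nat.lor FPL_p109 (Nat.shiftLeft FPL_p110 15981)) 15981)) 47943)) 79905)) 175791)) (Nat.shiftLeft (Nat.lor (Nat.lor (Nat.lor (Nat.lor FPL_p111 (Nat.shiftLeft FPL_p112 15981)) (Nat.shiftLeft (Nat.lor FPL_p113 (Nat.shiftLeft (Nat.lor FPL_p114 (Nat.shiftLeft FPL_p115 15981)) 15981)) 31962)) (Nat.shiftLeft (Nat.lor (Nat.lor FPL_p116 (Nat.shiftLeft (Nat.lor FPL_p117 (Nat.shiftLeft FPL_p118 15981)) 15981)) (Nat.shiftLeft (Nat.lor FPL_p119 (Nat.shiftLeft (Nat.lor FPL_p120 (Nat.shiftLeft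 FPL_p121 15981)) 15981)) 47943)) 79905)) (Nat.shiftLeft (Nat.lor (Nat.lor (Nat.lor FPL_p122 (Nat.shiftLeft FPL_p123 15981)) (Nat.shiftLeft (Nat.lor FPL_p124 (Nat.shiftLeft (Nat.lor FPL_p125 (Nat.shiftLeft FPL_p126 15981)) 15981)) 31962)) (Nat.shiftLeft (Nat.lor (Nat.lor FPL_p127 (Nat.shiftLeft (Nat.lor FPL_p128 (Nat.shiftLeft FPL_p129 15981)) 15981)) (Nat.shiftLeft (Nat.lor FPL_p130 (Nat.shiftLeft (Nat.lor FPL_p131 (Nat.shiftLeft FPL_p132 15981)) 15981)) 47943)) 79905)) 175791)) 351582)) (Nat.shiftLeft (Nat.lor (Nat.lor (Nat.lor (Nat.lor (Nat.lor FPL_p133 (Nat.shiftLeft FPL_p134 15981)) (Nat.shiftLeft (Nat.lor FPL_p135 (Nat.shiftLeft (Nat.lor FPL_p136 (Nat.shiftLeft FPL_p137 15981)) 15981)) 31962)) (Nat.shiftLeft (Nat.lor (Nat.lor FPL_p138 (Nat.shiftLeft (Nat.lor FPL_p139 (Nat.shiftLeft FPL_p140 15981)) 15981)) (Nat.shiftLeft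 (Nat.lor FPL_p141 (Nat.shiftLeft (Nat.lor FPL_p142 (Nat.shiftLeft FPL_p143 15981)) 15981)) 47943)) 79905)) (Nat.shiftLeft (Nat.lor (Nat.lor (Nat.lor FPL_p144 (Nat.shiftLeft FPL_p145 15981)) (Nat.shiftLeft (Nat.lor FPL_p146 (Nat.shiftLeft (Nat.lor FPL_p147 (Nat.shiftLeft FPL_p148 15981)) 15981)) 31962)) (Nat.shiftLeft (Nat.lor (Nat.lor FPL_p149 (Nat.shiftLeft (Nat.lor FPL_p150 (Nat.shiftLeft FPL_p151 15981)) 15981)) (Nat.shiftLeft (Nat.lor FPL_p152 (Nat.shiftLeft (Nat.lor FPL_p153 (Nat.shiftLeft FPL_p154 15981)) 15981)) 47943)) 79905)) 175791)) (Nat.shiftLeft (Nat.lor (Nat.lor (Nat.lor (Nat.lor FPL_p155 (Nat.shiftLeft FPL_p156 15981)) (Nat.shiftLeft (Nat.lor FPL_p157 (Nat.shiftLeft (Nat.lor FPL_p158 (Nat.shiftLeft FPL_p159 15981)) 15981)) 31962)) (Nat.shiftLeft (Nat.lor (Nat.lor FPL_p160 (Nat.shiftLeft (Nat.lor FPL_p161 (Nat.shiftLeft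 FPL_p162 15981)) 15981)) (Nat.shiftLeft (Nat.lor FPL_p163 (Nat.shiftLeft (Nat.lor FPL_p164 (Nat.shiftLeft FPL_p165 15981)) 15981)) 47943)) 79905)) (Nat.shiftLeft (Nat.lor (Nat.lor (Nat.lor FPL_p166 (Nat.shiftLeft (Nat.lor FPL_p167 (Nat.shiftLeft FPL_p168 15981)) 15981)) (Nat.shiftLeft (Nat.lor FPL_p169 (Nat.shiftLeft (Nat.lor FPL_p170 (Nat.shiftLeft FPL_p171 15981)) 15981)) 47943)) (Nat.shiftLeft (Nat.lor (Nat.lor FPL_p172 (Nat.shiftLeft (Nat.lor FPL_p173 (Nat.shiftLeft FPL_p174 15981)) 15981)) (Nat.shiftLeft (Nat.lor FPL_p175 (Nat.shiftLeft (Nat.lor FPL_p176 (Nat.shiftLeft FPL_p177 15981)) 15981)) 47943)) 95886)) 175791)) 351582)) 703164)) 1422309))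
noncomputable def FPL_M1 : Nat := Nat.sub (Nat.shiftLeft 1 86016) 1
noncomputable def FPL_M2 : Nat := Nat.sub (Nat.shiftLeft 1 672) 1
noncomputable def FPL (p : Nat) : Nat :=
  force (Nat.shiftRight p 12) fun b1 => force (Nat.land (Nat.shiftRight p 5) 127) fun b2 =>
    Nat.land (Nat.shiftRight (Nat.land (Nat.shiftRight (Nat.land (Nat.shiftRight FPL_T (Nat.mul b1 86016)) FPL_M1) (Nat.mul b2 672)) FPL_M2) (Nat.mul (Nat.land p 31) 21)) 2097151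

noncomputable def DD : Frs := ⟨1, 124458, FPL, 8, 32, 8, 135135, [1145, 1355, 623, 899]⟩

noncomputable def SPK_T : Nat := (Nat.lor (Nat.lor (Nat.lor SPK_p0 (Nat.shiftLeft (Nat.lor SPK_p1 (Nat.shiftLeft SPK_p2 15979)) 15979)) (Nat.shiftLeft (Nat.lor (Nat.lor SPK_p3 (Nat.shiftLeft SPK_p4 15979)) (Nat.shiftLeft (Nat.lor SPK_p5 (Nat.shiftLeft SPK_p6 15979)) 31958)) 47937)) (Nat.shiftLeft (Nat.lor (Nat.lor (Nat.lor SPK_p7 (Nat.shiftLeft SPK_p8 15979)) (Nat.shiftLeft (Nat.lor SPK_p9 (Nat.shiftLeft SPK_p10 15979)) 31958)) (Nat.shiftLeft (Nat.lor (Nat.lor SPK_p11 (Nat.shiftLeft SPK_p12 15979)) (Nat.shiftLeft (Nat.lor SPK_p13 (Nat.shiftLeft SPK_p14 15979)) 31958)) 63916)) 111853))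
noncomputable def SPK_M1 : Nat := Nat.sub (Nat.shiftLeft 1 118784) 1
noncomputable def SPK_M2 : Nat := Nat.sub (Nat.shiftLeft 1 928) 1
noncomputable def SPK (p : Nat) : Nat :=
  force (Nat.shiftRight p 12) fun b1 => force (Nat.land (Nat.shiftRight p 5) 127) fun b2 =>
    Nat.land (Nat.shiftRight (Nat.land (Nat.shiftRight (Nat.land (Nat.shiftRight SPK_T (Nat.mul b1 118784)) SPK_M1) (Nat.mul b2 928)) SPK_M2) (Nat.mul (Nat.land p 31) 29)) 536870911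

noncomputable def SCN_T : Nat := SCN_p0
noncomputable def SCN_M1 : Nat := Nat.sub (Nat.shiftLeft 1 49152) 1
noncomputable def SCN_M2 : Nat := Nat.sub (Nat.shiftLeft 1 384) 1
noncomputable def SCN (p : Nat) : Nat :=
  force (Nat.shiftRight p 12) fun b1 => force (Nat.land (Nat.shiftRight p 5) 127) fun b2 =>
    Nat.land (Nat.shiftRight (Nat.land (Nat.shiftRight (Nat.land (Nat.shiftRight SCN_T (Nat.mul b1 49152)) SCN_M1) (Nat.mul b2 384)) SCN_M2) (Nat.mul (Nat.land p 31) 12)) 4095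

noncomputable def WPT_T : Nat := WPT_p0
noncomputable def WPT_M1 : Nat := Nat.sub (Nat.shiftLeft 1 45056) 1
noncomputable def WPT_M2 : Nat := Nat.sub (Nat.shiftLeft 1 352) 1
noncomputable def WPT (p : Nat) : Nat :=
  force (Nat.shiftRight p 12) fun b1 => force (Nat.land (Nat.shiftRight p 5) 127) fun b2 =>
    Nat.land (Nat.shiftRight (Nat.land (Nat.shiftRight (Nat.land (Nat.shiftRight WPT_T (Nat.mul b1 45056)) WPT_M1) (Nat.mul b2 352)) WPT_M2) (Nat.mul (Nat.land p 31) 11)) 2047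

noncomputable def WPI_T : Nat := (Nat.lor WPI_p0 (Nat.shiftLeft (Nat.lor WPI_p1 (Nat.shiftLeft WPI_p2 16000)) 16000))
noncomputable def WPI_M1 : Nat := Nat.sub (Nat.shiftLeft 1 32768) 1
noncomputable def WPI_M2 : Nat := Nat.sub (Nat.shiftLeft 1 256) 1
noncomputable def WPI (p : Nat) : Nat :=
  force (Nat.shiftRight p 12) fun b1 => force (Nat.land (Nat.shiftRight p 5) 127) fun b2 =>
    Nat.land (Nat.shiftRight (Nat.land (Nat.shiftRight (Nat.land (Nat.shiftRight WPI_T (Nat.mul b1 32768)) WPI_M1) (Nat.mul b2 256)) WPI_M2) (Nat.mul (Nat.land p 31) 8)) 255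

def sqL : List Nat := [0, 0, 0, 0, 4, 12, 4, 0, 76, 0, 0, 1608, 1600]
def wlL : List Nat := [0, 0, 1, 1, 1, 1, 1, 1, 1, 2, 2, 2, 2]
def wsL : List Nat := [1, 2, 1, 2, 4, 8, 16, 32, 64, 1, 2, 4, 8]
def wbL : List Nat := [2, 1, 0]
def wmL : List Nat := [4, 128, 16]
noncomputable def SS : PcD where
  off := 40
  a := 13
  sq := fun k => sqL.getD k 0
  cn := SCN
  wl := fun k => wlL.getD k 0
  ws := fun k => wsL.getD k 0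
  wb := fun k => wbL.getD k 0
  wpt := fun l i => WPT (Nat.add (Nat.mul l 128) i)
  wpi := fun l q => WPI (Nat.add (Nat.mul l 1782) q)
  wm := fun k => wmL.getD k 0
  lv := 3
  pk := SPK

noncomputable def OPL0_T : Nat := (Nat.lor (Nat.lor (Nat.lor (Nat.lor (Nat.lor (Nat.lor (Nat.lor OPL0_p0 (Nat.shiftLeft OPL0_p1 15981)) (Nat.shiftLeft (Nat.lor OPL0_p2 (Nat.shiftLeft (Nat.lor OPL0_p3 (Nat.shiftLeft OPL0_p4 15981)) 15981)) 31962)) (Nat.shiftLeft (Nat.lor (Nat.lor OPL0_p5 (Nat.shiftLeft (Nat.lor OPL0_p6 (Nat.shiftLeft OPL0_p7 15981)) 15981)) (Nat.shiftLeft (Nat.lor OPL0_p8 (Nat.shiftLeft (Nat.lor OPL0_p9 (Nat.shiftLeft OPL0_p10 15981)) 15981)) 47943)) 79905)) (Nat.shiftLeft (Nat.lor (Nat.lor (Nat.lor OPL0_p11 (Nat.shiftLeft OPL0_p12 15981)) (Nat.shiftLeft (Nat.lor OPL0_p13 (Nat.shiftLeft (Nat.lor OPL0_p14 (Nat.shiftLeft OPL0_p15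 15981)) 15981)) 31962)) (Nat.shiftLeft (Nat.lor (Nat.lor OPL0_p16 (Nat.shiftLeft (Nat.lor OPL0_p17 (Nat.shiftLeft OPL0_p18 15981)) 15981)) (Nat.shiftLeft (Nat.lor OPL0_p19 (Nat.shiftLeft (Nat.lor OPL0_p20 (Nat.shiftLeft OPL0_p21 15981)) 15981)) 47943)) 79905)) 175791)) (Nat.shiftLeft (Nat.lor (Nat.lor (Nat.lor (Nat.lor OPL0_p22 (Nat.shiftLeft OPL0_p23 15981)) (Nat.shiftLeft (Nat.lor OPL0_p24 (Nat.shiftLeft (Nat.lor OPL0_p25 (Nat.shiftLeft OPL0_p26 15981)) 15981)) 31962)) (Nat.shiftLeft (Nat.lor (Nat.lor OPL0_p27 (Nat.shiftLeft (Nat.lor OPL0_p28 (Nat.shiftLeft OPL0_p29 15981)) 15981)) (Nat.shiftLeft (Nat.lor OPL0_p30 (Nat.shiftLeft (Nat.lor OPL0_p31 (Nat.shiftLeft OPL0_p32 15981)) 15981)) 47943)) 79905)) (Nat.shiftLeft (Nat.lor (Nat.lor (Nat.lor OPL0_p33 (Nat.shiftLeft OPL0_p34 15981)) (Nat.shiftLeft (Nat.lor OPL0_p35 (Nat.shiftLeft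 (Nat.lor OPL0_p36 (Nat.shiftLeft OPL0_p37 15981)) 15981)) 31962)) (Nat.shiftLeft (Nat.lor (Nat.lor OPL0_p38 (Nat.shiftLeft (Nat.lor OPL0_p39 (Nat.shiftLeft OPL0_p40 15981)) 15981)) (Nat.shiftLeft (Nat.lor OPL0_p41 (Nat.shiftLeft (Nat.lor OPL0_p42 (Nat.shiftLeft OPL0_p43 15981)) 15981)) 47943)) 79905)) 175791)) 351582)) (Nat.shiftLeft (Nat.lor (Nat.lor (Nat.lor (Nat.lor (Nat.lor OPL0_p44 (Nat.shiftLeft OPL0_p45 15981)) (Nat.shiftLeft (Nat.lor OPL0_p46 (Nat.shiftLeft (Nat.lor OPL0_p47 (Nat.shiftLeft OPL0_p48 15981)) 15981)) 31962)) (Nat.shiftLeft (Nat.lor (Nat.lor OPL0_p49 (Nat.shiftLeft (Nat.lor OPL0_p50 (Nat.shiftLeft OPL0_p51 15981)) 15981)) (Nat.shiftLeft (Nat.lor OPL0_p52 (Nat.shiftLeft (Nat.lor OPL0_p53 (Nat.shiftLeft OPL0_p54 15981)) 15981)) 47943)) 79905)) (Nat.shiftLeft (Nat.lor (Nat.lor (Nat.lor OPL0_p55 (Nat.shiftLeft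 OPL0_p56 15981)) (Nat.shiftLeft (Nat.lor OPL0_p57 (Nat.shiftLeft (Nat.lor OPL0_p58 (Nat.shiftLeft OPL0_p59 15981)) 15981)) 31962)) (Nat.shiftLeft (Nat.lor (Nat.lor OPL0_p60 (Nat.shiftLeft (Nat.lor OPL0_p61 (Nat.shiftLeft OPL0_p62 15981)) 15981)) (Nat.shiftLeft (Nat.lor OPL0_p63 (Nat.shiftLeft (Nat.lor OPL0_p64 (Nat.shiftLeft OPL0_p65 15981)) 15981)) 47943)) 79905)) 175791)) (Nat.shiftLeft (Nat.lor (Nat.lor (Nat.lor (Nat.lor OPL0_p66 (Nat.shiftLeft OPL0_p67 15981)) (Nat.shiftLeft (Nat.lor OPL0_p68 (Nat.shiftLeft (Nat.lor OPL0_p69 (Nat.shiftLeft OPL0_p70 15981)) 15981)) 31962)) (Nat.shiftLeft (Nat.lor (Nat.lor OPL0_p71 (Nat.shiftLeft (Nat.lor OPL0_p72 (Nat.shiftLeft OPL0_p73 15981)) 15981)) (Nat.shiftLeft (Nat.lor OPL0_p74 (Nat.shiftLeft (Nat.lor OPL0_p75 (Nat.shiftLeft OPL0_p76 15981)) 15981)) 47943)) 79905)) (Nat.shiftLeft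 (Nat.lor (Nat.lor (Nat.lor OPL0_p77 (Nat.shiftLeft (Nat.lor OPL0_p78 (Nat.shiftLeft OPL0_p79 15981)) 15981)) (Nat.shiftLeft (Nat.lor OPL0_p80 (Nat.shiftLeft (Nat.lor OPL0_p81 (Nat.shiftLeft OPL0_p82 15981)) 15981)) 47943)) (Nat.shiftLeft (Nat.lor (Nat.lor OPL0_p83 (Nat.shiftLeft (Nat.lor OPL0_p84 (Nat.shiftLeft OPL0_p85 15981)) 15981)) (Nat.shiftLeft (Nat.lor OPL0_p86 (Nat.shiftLeft (Nat.lor OPL0_p87 (Nat.shiftLeft OPL0_p88 15981)) 15981)) 47943)) 95886)) 175791)) 351582)) 703164)) (Nat.shiftLeft (Nat.lor (Nat.lor (Nat.lor (Nat.lor (Nat.lor (Nat.lor OPL0_p89 (Nat.shiftLeft OPL0_p90 15981)) (Nat.shiftLeft (Nat.lor OPL0_p91 (Nat.shiftLeft (Nat.lor OPL0_p92 (Nat.shiftLeft OPL0_p93 15981)) 15981)) 31962)) (Nat.shiftLeft (Nat.lor (Nat.lor OPL0_p94 (Nat.shiftLeft (Nat.lor OPL0_p95 (Nat.shiftLeft OPL0_p96 15981)) 15981)) (Nat.shiftLeft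 (Nat.lor OPL0_p97 (Nat.shiftLeft (Nat.lor OPL0_p98 (Nat.shiftLeft OPL0_p99 15981)) 15981)) 47943)) 79905)) (Nat.shiftLeft (Nat.lor (Nat.lor (Nat.lor OPL0_p100 (Nat.shiftLeft OPL0_p101 15981)) (Nat.shiftLeft (Nat.lor OPL0_p102 (Nat.shiftLeft (Nat.lor OPL0_p103 (Nat.shiftLeft OPL0_p104 15981)) 15981)) 31962)) (Nat.shiftLeft (Nat.lor (Nat.lor OPL0_p105 (Nat.shiftLeft (Nat.lor OPL0_p106 (Nat.shiftLeft OPL0_p107 15981)) 15981)) (Nat.shiftLeft (Nat.lor OPL0_p108 (Nat.shiftLeft (Nat.lor OPL0_p109 (Nat.shiftLeft OPL0_p110 15981)) 15981)) 47943)) 79905)) 175791)) (Nat.shiftLeft (Nat.lor (Nat.lor (Nat.lor (Nat.lor OPL0_p111 (Nat.shiftLeft OPL0_p112 15981)) (Nat.shiftLeft (Nat.lor OPL0_p113 (Nat.shiftLeft (Nat.lor OPL0_p114 (Nat.shiftLeft OPL0_p115 15981)) 15981)) 31962)) (Nat.shiftLeft (Nat.lor (Nat.lor OPL0_p116 (Nat.shiftLeft (Nat.lor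 OPL0_p117 (Nat.shiftLeft OPL0_p118 15981)) 15981)) (Nat.shiftLeft (Nat.lor OPL0_p119 (Nat.shiftLeft (Nat.lor OPL0_p120 (Nat.shiftLeft OPL0_p121 15981)) 15981)) 47943)) 79905)) (Nat.shiftLeft (Nat.lor (Nat.lor (Nat.lor OPL0_p122 (Nat.shiftLeft OPL0_p123 15981)) (Nat.shiftLeft (Nat.lor OPL0_p124 (Nat.shiftLeft (Nat.lor OPL0_p125 (Nat.shiftLeft OPL0_p126 15981)) 15981)) 31962)) (Nat.shiftLeft (Nat.lor (Nat.lor OPL0_p127 (Nat.shiftLeft (Nat.lor OPL0_p128 (Nat.shiftLeft OPL0_p129 15981)) 15981)) (Nat.shiftLeft (Nat.lor OPL0_p130 (Nat.shiftLeft (Nat.lor OPL0_p131 (Nat.shiftLeft OPL0_p132 15981)) 15981)) 47943)) 79905)) 175791)) 351582)) (Nat.shiftLeft (Nat.lor (Nat.lor (Nat.lor (Nat.lor (Nat.lor OPL0_p133 (Nat.shiftLeft OPL0_p134 15981)) (Nat.shiftLeft (Nat.lor OPL0_p135 (Nat.shiftLeft (Nat.lor OPL0_p136 (Nat.shiftLeft OPL0_p137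 15981)) 15981)) 31962)) (Nat.shiftLeft (Nat.lor (Nat.lor OPL0_p138 (Nat.shiftLeft (Nat.lor OPL0_p139 (Nat.shiftLeft OPL0_p140 15981)) 15981)) (Nat.shiftLeft (Nat.lor OPL0_p141 (Nat.shiftLeft (Nat.lor OPL0_p142 (Nat.shiftLeft OPL0_p143 15981)) 15981)) 47943)) 79905)) (Nat.shiftLeft (Nat.lor (Nat.lor (Nat.lor OPL0_p144 (Nat.shiftLeft OPL0_p145 15981)) (Nat.shiftLeft (Nat.lor OPL0_p146 (Nat.shiftLeft (Nat.lor OPL0_p147 (Nat.shiftLeft OPL0_p148 15981)) 15981)) 31962)) (Nat.shiftLeft (Nat.lor (Nat.lor OPL0_p149 (Nat.shiftLeft (Nat.lor OPL0_p150 (Nat.shiftLeft OPL0_p151 15981)) 15981)) (Nat.shiftLeft (Nat.lor OPL0_p152 (Nat.shiftLeft (Nat.lor OPL0_p153 (Nat.shiftLeft OPL0_p154 15981)) 15981)) 47943)) 79905)) 175791)) (Nat.shiftLeft (Nat.lor (Nat.lor (Nat.lor (Nat.lor OPL0_p155 (Nat.shiftLeft OPL0_p156 15981)) (Nat.shiftLeft (Nat.lor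 OPL0_p157 (Nat.shiftLeft (Nat.lor OPL0_p158 (Nat.shiftLeft OPL0_p159 15981)) 15981)) 31962)) (Nat.shiftLeft (Nat.lor (Nat.lor OPL0_p160 (Nat.shiftLeft (Nat.lor OPL0_p161 (Nat.shiftLeft OPL0_p162 15981)) 15981)) (Nat.shiftLeft (Nat.lor OPL0_p163 (Nat.shiftLeft (Nat.lor OPL0_p164 (Nat.shiftLeft OPL0_p165 15981)) 15981)) 47943)) 79905)) (Nat.shiftLeft (Nat.lor (Nat.lor (Nat.lor OPL0_p166 (Nat.shiftLeft (Nat.lor OPL0_p167 (Nat.shiftLeft OPL0_p168 15981)) 15981)) (Nat.shiftLeft (Nat.lor OPL0_p169 (Nat.shiftLeft (Nat.lor OPL0_p170 (Nat.shiftLeft OPL0_p171 15981)) 15981)) 47943)) (Nat.shiftLeft (Nat.lor (Nat.lor OPL0_p172 (Nat.shiftLeft (Nat.lor OPL0_p173 (Nat.shiftLeft OPL0_p174 15981)) 15981)) (Nat.shiftLeft (Nat.lor OPL0_p175 (Nat.shiftLeft (Nat.lor OPL0_p176 (Nat.shiftLeft OPL0_p177 15981)) 15981)) 47943)) 95886)) 175791)) 351582))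 703164)) 1422309))
noncomputable def OPL0_M1 : Nat := Nat.sub (Nat.shiftLeft 1 86016) 1
noncomputable def OPL0_M2 : Nat := Nat.sub (Nat.shiftLeft 1 672) 1
noncomputable def OPL0 (p : Nat) : Nat :=
  force (Nat.shiftRight p 12) fun b1 => force (Nat.land (Nat.shiftRight p 5) 127) fun b2 =>
    Nat.land (Nat.shiftRight (Nat.land (Nat.shiftRight (Nat.land (Nat.shiftRight OPL0_T (Nat.mul b1 86016)) OPL0_M1) (Nat.mul b2 672)) OPL0_M2) (Nat.mul (Nat.land p 31) 21)) 2097151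

noncomputable def OO0 : Frs := ⟨54, 111580, OPL0, 8, 32, 6, 135140, [679, 1308, 555, 1453]⟩

noncomputable def Os : List Frs := [OO0]

def wdsL : List (List Nat) := [
  [],
  [9, 10, 11, 11, 8, 8, 8, 5, 3, 2, 3, 0, 1, 0, 0, 1, 0, 0, 0, 0, 1, 0, 0, 0, 1, 0],
  [9, 11, 10, 11, 11, 5, 8, 4, 5, 3, 2, 3, 3, 2, 3, 3, 3, 2, 3, 2, 0, 0, 1, 0, 1, 0, 0, 0, 1, 0, 0, 0, 0, 1, 0],
  [10, 10, 10, 11, 10, 11, 6, 5, 8, 2, 3, 2, 2, 3, 3, 2, 3, 0, 0, 0, 0, 1, 0, 0, 0, 0, 0, 0, 0, 0, 0, 0],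
  [9, 9, 10, 9, 5, 7, 6, 2, 2, 3, 3, 2, 2, 3, 3, 2, 2, 3, 3, 0, 1, 0, 0, 1, 0, 0, 1, 0, 1, 0, 0, 1, 0, 0, 0],
  [5, 6, 8, 6, 6, 2, 2, 3, 3, 3, 2, 3, 3, 0, 0, 1, 0, 0, 0, 0, 1, 0, 0, 0, 1, 0],
  [10, 10, 11, 11, 11, 5, 8, 8, 2, 2, 3, 3, 2, 3, 3, 3, 2, 2, 0, 0, 0, 0, 0, 1, 0, 1, 0, 0, 0, 0, 1],
  [9, 11, 10, 10, 11, 8, 4, 6, 4, 3, 3, 2, 3, 2, 2, 2, 3, 2, 0, 0, 0, 0, 1, 0, 0, 0, 0, 0, 0, 0, 0, 0, 1, 0],
  [10, 11, 10, 11, 11, 5, 5, 5, 3, 3, 2, 3, 2, 2, 0, 1, 0, 1, 0, 0, 0, 1, 0, 0, 0, 0, 0, 0, 1],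
  [10, 11, 11, 11, 5, 4, 8, 8, 2, 3, 3, 2, 3, 2, 0, 1, 0, 1],
  [10, 11, 10, 10, 10, 11, 6, 4, 7, 7, 8, 3, 2, 3, 3, 3, 2, 2, 2, 3, 1, 0, 0, 0, 1, 0, 1, 0, 0, 0, 0],
  [10, 10, 11, 11, 11, 5, 6, 8, 4, 3, 3, 3, 3, 2, 2, 3, 2, 2, 2, 2, 0, 0, 1, 0, 1, 0, 0, 0, 1, 0, 0],
  [9, 10, 9, 9, 9, 9, 6, 8, 7, 7, 7, 2, 2, 2, 2, 2, 3, 2, 2, 3, 2, 3, 1, 0, 0, 1, 0, 0, 1, 0, 1, 0, 0, 0, 1],
  [11, 10, 10, 10, 6, 7, 3, 2, 3, 2, 2, 3, 2, 3, 2, 2, 0, 0, 1, 0, 0, 0, 0, 1, 0, 0, 0, 0, 1, 0],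
  [5, 4, 6, 7, 4, 3, 3, 2, 3, 2, 3, 3, 3, 0, 0, 0, 0, 0, 0, 0, 0, 1, 0, 0, 0, 0]]
def wds (j : Nat) : List Nat := wdsL.getD j []

def Bs : List Nat := [0, 1, 2, 160]

def rs : List (List Bool × Nat × Nat) := [([true, false, true, false, true, false, true, false], 1, 714),
  ([true, true, false], 6, 1499),
  ([true, true, true, true, false], 11, 1413),
  ([true, false, true, true, true, false, true, true, false], 6, 1211),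
  ([true, true, false], 6, 1296)]

def goods : List (Nat × Nat) := [(124458, 0), (129125, 1), (36859, 2), (109434, 3), (95015, 4), (6942, 5), (81393, 6), (19647, 7), (35811, 8), (122249, 9), (101110, 10), (110022, 11), (132806, 12)]

def goodIdx : List Nat := goods.map Prod.fst


end Cfsg.Agent.Lib.PermComp.OutP.Suz
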