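import Cfsg.Agent.Lib.PermComp.OutP.Suz.ChkT0
import Cfsg.Agent.Lib.PermComp.OutP.Suz.ChkS0
import Cfsg.Agent.Lib.PermComp.OutP.Suz.ChkR0
import Cfsg.Agent.Lib.PermComp.OutP.Suz.ChkK0
import Cfsg.Agent.Lib.PermComp.OutP.Suz.ChkL
import Cfsg.Agent.Lib.PermComp.OutP.Suz.ChkO
import Cfsg.Agent.Lib.PermComp.OutP.Suz.ChkP

set_option autoImplicit false
set_option maxRecDepth 100000
set_option maxHeartbeats 0

namespace Cfsg.Agent.Lib.PermComp.OutP.Suz

open Cfsg Cfsg.Agent.Lib.PermComp.OutP
open Cfsg.Agent.Lib.PermComp.Core (force)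
open Cfsg.Agent.Lib.PermComp.Kron (rangeAll rangeAll_spec)

theorem hn : 0 < n := by decide

theorem hlt : ∀ g < 55, 2 ≤ g → ∀ a ∈ prog g, a < g := by
  intro g hg _ a ha
  have h := range_of (p := fun g => Core.allL (fun a => Nat.blt a g) (prog g)) (lo := 0) (len := 55) (hi := 55) hlt_ck rfl g (Nat.zero_le _) hg
  exact blt_lt ((Core.allL_eq_true _ _).1 h a ha)

theorem hp : ∀ g < 55, 2 ≤ g → ∀ q < 1782, F g q = wApp F (prog g) q := by
  intro g hg h2 q hq
  have h : progR F g (prog g) 0 1782 = true := by
    interval_cases g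
    · exact hp_2
    · exact hp_3
    · exact hp_4
    · exact hp_5
    · exact hp_6
    · exact hp_7
    · exact hp_8
    · exact hp_9
    · exact hp_10
    · exact hp_11
    · exact hp_12
    · exact hp_13
    · exact hp_14
    · exact hp_15
    · exact hp_16
    · exact hp_17
    · exact hp_18
    · exact hp_19
    · exact hp_20
    · exact hp_21
    · exact hp_22
    · exact hp_23
    · exact hp_24
    · exact hp_25
    · exact hp_26
    · exact hp_27
    · exact hp_28
    · exact hp_29
    · exact hp_30
    · exact hp_31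
    · exact hp_32
    · exact hp_33
    · exact hp_34
    · exact hp_35
    · exact hp_36
    · exact hp_37
    · exact hp_38
    · exact hp_39
    · exact hp_40
    · exact hp_41
    · exact hp_42
    · exact hp_43
    · exact hp_44
    · exact hp_45
    · exact hp_46
    · exact hp_47
    · exact hp_48
    · exact hp_49
    · exact hp_50
    · exact hp_51
    · exact hp_52
    · exact hp_53
    · exact hp_54
  exact Nat.eq_of_beq_eq_true (rangeAll_spec h q (Nat.zero_le _) (by omega))

theorem hds : LevsC n 55 F [] ds := ⟨fun s hs => range_of (p := levOK n F dL0) (lo := 0) (len := 1782) (hi := 1782) dL0_lv rfl s (Nat.zero_le _) hs, by decide +kernel, by decide +kernel, dL0_fx, by decide +kernel, ⟨fun s hs => range_of (p := levOK n F dL1) (lo := 0) (len := 1365) (hi := 1365) dL1_lv rfl s (Nat.zero_le _) hs, by decide +kernel, by decide +kernel, dL1_fx, by decide +kernel, ⟨fun s hs => range_of (p := levOK n F dL2) (lo := 0) (len := 1024) (hi := 1024) dL2_lv rfl s (Nat.zero_le _) hs, by decide +kernel, by decide +kernel,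 dL2_fx, by decide +kernel, ⟨fun s hs => range_of (p := levOK n F dL3) (lo := 0) (len := 180) (hi := 180) dL3_lv rfl s (Nat.zero_le _) hs, by decide +kernel, by decide +kernel, dL3_fx, by decide +kernel, trivial⟩⟩⟩⟩

theorem hcs : LevsC n 55 F [] cs := ⟨fun s hs => range_of (p := levOK n F cL0) (lo := 0) (len := 1728) (hi := 1728) cL0_lv rfl s (Nat.zero_le _) hs, by decide +kernel, by decide +kernel, cL0_fx, by decide +kernel, ⟨fun s hs => range_of (p := levOK n F cL1) (lo := 0) (len := 640) (hi := 640) cL1_lv rfl s (Nat.zero_le _) hs, by decide +kernel, by decide +kernel, cL1_fx, by decide +kernel, ⟨fun s hs => range_of (p := levOK n F cL2) (lo := 0) (len := 3) (hi := 3) cL2_lv rfl s (Nat.zero_le _) hs, by decide +kernel, by decide +kernel, cL2_fx, by decide +kernel, trivial⟩⟩⟩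

theorem hdsm : ∀ d ∈ ds, d.off + d.cnt ≤ 55 := by
  have h : Core.allL (fun d => Nat.ble (d.off + d.cnt) 55) ds = true := by decide +kernel
  exact fun d hd => Nat.le_of_ble_eq_true ((Core.allL_eq_true _ _).1 h d hd)

theorem hcomm : ∀ d ∈ cs, d.off + d.cnt ≤ 55 ∧ ∀ g, d.off ≤ g → g < d.off + d.cnt → ∀ q < 1782, F g (F 1 q) = F 1 (F g q) := by
  intro d hd
  simp only [cs, List.mem_cons, List.not_mem_nil, or_false] at hd
  rcases hd with rfl | rfl | rfl
  · refine ⟨by decide +kernel, fun g h1 h2 q hq => ?_⟩
    have h := rangeAll_spec cL0_cm g h1 (by simpa [cL0] using h2)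
    exact Nat.eq_of_beq_eq_true (rangeAll_spec h q (Nat.zero_le _) (by simpa [n] using hq))
  · refine ⟨by decide +kernel, fun g h1 h2 q hq => ?_⟩
    have h := rangeAll_spec cL1_cm g h1 (by simpa [cL1] using h2)
    exact Nat.eq_of_beq_eq_true (rangeAll_spec h q (Nat.zero_le _) (by simpa [n] using hq))
  · refine ⟨by decide +kernel, fun g h1 h2 q hq => ?_⟩
    have h := rangeAll_spec cL2_cm g h1 (by simpa [cL2] using h2)
    exact Nat.eq_of_beq_eq_true (rangeAll_spec h q (Nat.zero_le _) (by simpa [n] using hq))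

theorem hsort : ∀ j, j + 1 < DD.L → DD.key n F j < DD.key n F (j + 1) := by
  have h : ∀ j, 0 ≤ j → j < 135134 → DD.key n F j < DD.key n F (j + 1) := by
    exact (join_range (join_range (join_range (fun j h1 h2 => sortR_spec srt_c0 j h1 (by omega)) (join_range (fun j h1 h2 => sortR_spec srt_c1 j h1 (by omega)) (fun j h1 h2 => sortR_spec srt_c2 j h1 (by omega)))) (join_range (join_range (fun j h1 h2 => sortR_spec srt_c3 j h1 (by omega)) (fun j h1 h2 => sortR_spec srt_c4 j h1 (by omega))) (join_range (fun j h1 h2 => sortR_spec srt_c5 j h1 (by omega)) (fun j h1 h2 => sortR_spec srt_c6 j h1 (by omega))))) (join_range (join_range (fun j h1 h2 => sortR_spec srt_c7 j h1 (by omega)) (join_range (fun j h1 h2 => sortR_spec srt_c8 j h1 (by omega)) (fun j h1 h2 => sortR_spec srt_c9 j h1 (by omega)))) (join_range (join_range (fun j h1 h2 => sortR_spec srt_c10 j h1 (by omega)) (fun j h1 h2 => sortR_spec srt_c11 j h1 (by omega))) (join_range (fun j h1 h2 => sortR_spec srt_c12 j h1 (by omega)) (fun j h1 h2 => sortR_spec srt_c13 j h1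 (by omega))))))
  intro j hj
  have hL : DD.L = 135135 := rfl
  exact h j (Nat.zero_le _) (by omega)

theorem hD : DD.OK n 55 F where
  ht0 := by decide +kernel
  hcnt := by decide +kernel
  hoff := by decide +kernel
  hQ := by
    have h : Core.allL (fun q => Nat.blt q n) DD.Q = true := by decide +kernel
    exact fun q hq => blt_lt ((Core.allL_eq_true _ _).1 h q hq)
  hinvol := by
    intro g h1 h2 p hp
    have h := rangeAll_spec zinv_ck g h1 (by simpa [DD] using h2)
    exact Nat.eq_of_beq_eq_true (rangeAll_spec h p (Nat.zero_le _) (by simpa [n] using hp))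
  hsort := hsort

theorem hO0 : OO0.OK n 55 F where
  ht0 := by decide +kernel
  hcnt := by decide +kernel
  hoff := by decide +kernel
  hQ := by
    have h : Core.allL (fun q => Nat.blt q n) OO0.Q = true := by decide +kernel
    exact fun q hq => blt_lt ((Core.allL_eq_true _ _).1 h q hq)
  hinvol := by
    intro g h1 h2 p hp
    have h := rangeAll_spec zinv_ck g h1 (by simpa [OO0] using h2)
    exact Nat.eq_of_beq_eq_true (rangeAll_spec h p (Nat.zero_le _) (by simpa [n] using hp))
  hsort := by
    have h : ∀ j, 0 ≤ j → j < 135139 → OO0.key n F j < OO0.key n F (j + 1) := by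
      exact (join_range (join_range (join_range (fun j h1 h2 => sortR_spec srtO0_c0 j h1 (by omega)) (join_range (fun j h1 h2 => sortR_spec srtO0_c1 j h1 (by omega)) (fun j h1 h2 => sortR_spec srtO0_c2 j h1 (by omega)))) (join_range (join_range (fun j h1 h2 => sortR_spec srtO0_c3 j h1 (by omega)) (fun j h1 h2 => sortR_spec srtO0_c4 j h1 (by omega))) (join_range (fun j h1 h2 => sortR_spec srtO0_c5 j h1 (by omega)) (fun j h1 h2 => sortR_spec srtO0_c6 j h1 (by omega))))) (join_range (join_range (fun j h1 h2 => sortR_spec srtO0_c7 j h1 (by omega)) (join_range (fun j h1 h2 => sortR_spec srtO0_c8 j h1 (by omega)) (fun j h1 h2 => sortR_spec srtO0_c9 j h1 (by omega)))) (join_range (join_range (fun j h1 h2 => sortR_spec srtO0_c10 j h1 (by omega)) (fun j h1 h2 => sortR_spec srtO0_c11 j h1 (by omega))) (join_range (fun j h1 h2 => sortR_spec srtO0_c12 j h1 (by omega)) (fun j h1 h2 => sortR_spec srtO0_c13 j h1 (by omega))))))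
    intro j hj
    have hL : OO0.L = 135140 := rfl
    exact h j (Nat.zero_le _) (by omega)

theorem hOs : ∀ O ∈ Os, O.OK n 55 F ∧ DD.L < O.L := by
  intro O hO
  simp only [Os, List.mem_cons, List.not_mem_nil, or_false] at hO
  rcases hO with rfl
  · exact ⟨hO0, by decide +kernel⟩

theorem hS : SS.OK n 55 DD.L F (DD.v F) (rootO Os) wds Os.length Bs where
  hoff := by decide +kernel
  hBs := by
    have h : Core.allL (fun q => Nat.blt q n) Bs = true := by decide +kernel
    exact fun q hq => blt_lt ((Core.allL_eq_true _ _).1 h q hq)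
  hrel := by
    intro k hk
    have hk' : k < 13 := hk
    clear hk
    interval_cases k
    · exact prel_0
    · exact prel_1
    · exact prel_2
    · exact prel_3
    · exact prel_4
    · exact prel_5
    · exact prel_6
    · exact prel_7
    · exact prel_8
    · exact prel_9
    · exact prel_10
    · exact prel_11
    · exact prel_12
  hW := by
    intro k hk
    have hk' : k < 13 := hk
    clear hk
    interval_cases k
    · exact pW_0
    · exact pW_1
    · exact pW_2
    · exact pW_3
    · exact pW_4
    · exact pW_5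
    · exact pW_6
    · exact pW_7
    · exact pW_8
    · exact pW_9
    · exact pW_10
    · exact pW_11
    · exact pW_12
  hC := by
    intro l hl q hq
    have hl' : l < 3 := hl
    clear hl
    interval_cases l
    · exact rangeAll_spec pC_0 q (Nat.zero_le _) (by simpa [n] using hq)
    · exact rangeAll_spec pC_1 q (Nat.zero_le _) (by simpa [n] using hq)
    · exact rangeAll_spec pC_2 q (Nat.zero_le _) (by simpa [n] using hq)
  hkind := by
    intro i hi
    have h0 : (2 : Nat) ^ SS.a = 8192 := by decide +kernel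
    have hi' : i < 8192 := by rw [← h0]; exact hi
    exact (range_of (p := (pkOK2 F n 135135 (DD.v F) (rootO Os) wds 1 SS Bs)) (lo := 0) (len := 8192) (hi := 8192) pk_c0 rfl) i (Nat.zero_le _) hi'
  hwds := by
    intro j a_1 ha
    have h : Core.allL (fun w => Core.allL (fun a => Nat.blt a 55) w) wdsL = true := by decide +kernel
    unfold wds at ha
    by_cases hj : j < wdsL.length
    · rw [List.getD_eq_getElem _ _ hj] at ha
      exact blt_lt ((Core.allL_eq_true _ _).1 ((Core.allL_eq_true _ _).1 h _ (List.getElem_mem hj)) a_1 ha)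
    · rw [List.getD_eq_default _ _ (not_lt.1 hj)] at ha
      simp at ha

theorem hC : Common2 n 55 448345497600 3317760 13 54729675 13 F prog ds cs DD SS Bs Os wds rs goods where
  hn := hn
  hm1 := by decide
  hlt := hlt
  hp := hp
  hds := hds
  hdsm := hdsm
  hprod := by decide +kernel
  hBs := by decide +kernel
  hDt := rfl
  hD := hD
  hcs := hcs
  hcomm := hcomm
  hc := by decide +kernel
  hLc := by decide +kernel
  hS := hS
  hP := by decide +kernel
  hN2 := by decide +kernel
  hmm := by norm_num
  hOs := hOs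
  hb2 := fun q hq => Nat.eq_of_beq_eq_true (rangeAll_spec b2_ck q (Nat.zero_le _) (by simpa [n] using hq))
  hb1 := ⟨0, by decide, b1_ck⟩
  hAp := fun q hq => Nat.eq_of_beq_eq_true (rangeAll_spec Ap_ck q (Nat.zero_le _) (by simpa [n] using hq))
  hA1 := ⟨0, by decide, A1_ck⟩
  hq := by
    have h : Core.allL (fun r => Nat.blt r.2.2 n) rs = true := by decide +kernel
    exact fun r hr => blt_lt ((Core.allL_eq_true _ _).1 h r hr)
  hchk := by
    intro i hi
    exact (join_range (join_range (join_range (join_range (range_of (p := (rchk F 0 DD rs goodIdx)) (lo := 0) (len := 8000) (hi := 8000) rc_c0 rfl) (range_of (p := (rchk F 0 DD rs goodIdx)) (lo := 8000) (len := 8000) (hi := 16000) rc_c1 rfl)) (join_range (range_of (p := (rchk F 0 DD rs goodIdx)) (lo := 16000) (len := 8000) (hi := 24000) rc_c2 rfl) (range_of (p := (rchk F 0 DD rs goodIdx)) (lo := 24000) (len := 8000) (hi := 32000) rc_c3 rfl))) (join_range (join_range (range_of (p := (rchk F 0 DD rs goodIdx)) (lo := 32000) (len := 8000) (hi := 40000) rc_c4 rfl) (range_of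 (p := (rchk F 0 DD rs goodIdx)) (lo := 40000) (len := 8000) (hi := 48000) rc_c5 rfl)) (join_range (range_of (p := (rchk F 0 DD rs goodIdx)) (lo := 48000) (len := 8000) (hi := 56000) rc_c6 rfl) (range_of (p := (rchk F 0 DD rs goodIdx)) (lo := 56000) (len := 8000) (hi := 64000) rc_c7 rfl)))) (join_range (join_range (join_range (range_of (p := (rchk F 0 DD rs goodIdx)) (lo := 64000) (len := 8000) (hi := 72000) rc_c8 rfl) (range_of (p := (rchk F 0 DD rs goodIdx)) (lo := 72000) (len := 8000) (hi := 80000) rc_c9 rfl)) (join_range (range_of (p := (rchk F 0 DD rs goodIdx)) (lo := 80000) (len := 8000) (hi := 88000) rc_c10 rfl) (range_of (p := (rchk F 0 DD rs goodIdx)) (lo := 88000) (len := 8000) (hi := 96000) rc_c11 rfl))) (join_range (join_range (range_of (p := (rchk F 0 DD rs goodIdx)) (lo := 96000) (len := 8000) (hi := 104000) rc_c12 rfl) (range_of (p := (rchk F 0 DD rs goodIdx)) (lo := 104000) (len := 8000) (hi := 112000) rc_c13 rfl)) (join_range (range_of (p := (rchk F 0 DD rs goodIdx)) (lo := 112000) (len := 8000) (hi :=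 120000) rc_c14 rfl) (join_range (range_of (p := (rchk F 0 DD rs goodIdx)) (lo := 120000) (len := 8000) (hi := 128000) rc_c15 rfl) (range_of (p := (rchk F 0 DD rs goodIdx)) (lo := 128000) (len := 7135) (hi := 135135) rc_c16 rfl)))))) i (Nat.zero_le _) hi
  hrel := by
    intro r hr q hq
    exact rangeAll_spec ((Core.allL_eq_true _ _).1 rel_ck r hr) q (Nat.zero_le _) (by simpa [n] using hq)
  hgood := by
    intro x hx
    have h := (Core.allL_eq_true _ _).1 good_ck x hx
    rw [Core.ifB_eq_true] at h
    exact ⟨Nat.le_of_ble_eq_true h.1, h.2⟩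

theorem hcr : ∀ q < n, F 53 (F 0 q) = powA (F 0) 4 (F 53 q) := fun q hq =>
  Nat.eq_of_beq_eq_true (rangeAll_spec cr_ck q (Nat.zero_le _) (by simpa [n] using hq))

instance fp : Fact (Nat.Prime 13) := ⟨by norm_num⟩

theorem hjinv : ∀ q < n, invOK n (F 75) (F 76) q = true := fun q hq => rangeAll_spec ji_ck q (Nat.zero_le _) (by simpa [n] using hq)

/-- The main theorem. -/
theorem hsift : (∃ pre d post, ds = pre ++ d :: post ∧ (∀ d' ∈ pre, F 77 d'.b = d'.b) ∧ d.m ≤ d.pi (F 77 d.b)) ∨ ((∀ d' ∈ ds, F 77 d'.b = d'.b) ∧ ∃ q < n, F 77 q ≠ q) := by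
  left
  refine ⟨[dL0, dL1, dL2], dL3, [], rfl, ?_, by decide +kernel⟩
  have h : Core.allL (fun d => Nat.beq (F 77 d.b) d.b) [dL0, dL1, dL2] = true := by decide +kernel
  exact fun d hd => Nat.eq_of_beq_eq_true ((Core.allL_eq_true _ _).1 h d hd)

theorem main {H : Subgroup (Equiv.Perm (Fin 1782))} (hcard : Nat.card H = 448345497600) {A b : Equiv.Perm (Fin 1782)} (hA : A ∈ H) (hb : b ∈ H) (rA : Rp (F 0) A) (rb : Rp (F 1) b) : Nat.card (Out H) = 2 := by
  refine master_two2 hC hcard hA hb rA rb (gc := 53) (r := 4) (mp := 34488115200) (by decide) hcr (by decide +kernel) (by norm_num) 2 (by decide +kernel) hjinv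
    (fun q hq => Nat.eq_of_beq_eq_true (rangeAll_spec jA_ck q (Nat.zero_le _) (by simpa [n] using hq)))
    (fun q hq => Nat.eq_of_beq_eq_true (rangeAll_spec jb_ck q (Nat.zero_le _) (by simpa [n] using hq)))
    (rw := rwL) (by decide +kernel)
    (fun q hq => Nat.eq_of_beq_eq_true (rangeAll_spec gr_ck q (Nat.zero_le _) (by simpa [n] using hq)))
    hsift (d1 := dL0) (d2 := dL1) (rest := [dL2, dL3]) rfl
    (fun q hq => by
      have h := rangeAll_spec d1s_ck q (Nat.zero_le _) (by simpa [n] using hq)
      rw [Core.ifB_eq_true] at h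
      exact ⟨blt_lt h.1, Nat.eq_of_beq_eq_true h.2⟩)
    (fun q hq => rangeAll_spec mv_ck q (Nat.zero_le _) (by simpa [n] using hq))

/-- The two generators are in a group containing the given generators. -/
theorem has_gens {H : Subgroup (Equiv.Perm (Fin 1782))} (hX : ∀ g, 55 ≤ g → g < 62 → Has F H g) : Has F H 0 ∧ Has F H 1 := by
  have h2 : ∀ g, 55 ≤ g → g < 75 → Has F H g := by
    refine has_range hX prog2 ?_ ?_
    · intro g h1 h2
      have hb : Core.allL (fun g => Core.allL (fun a => Core.ifB (Nat.ble 55 a) (Nat.blt a g)) (prog2 g)) (List.range' 62 13) = true := by decide +kernel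
      intro a ha
      have h3 := (Core.allL_eq_true _ _).1 ((Core.allL_eq_true _ _).1 hb g (List.mem_range'_1.2 ⟨h1, by omega⟩)) a ha
      rw [Core.ifB_eq_true] at h3
      exact ⟨Nat.le_of_ble_eq_true h3.1, blt_lt h3.2⟩
    · intro g h1 h2 q hq
      have h : progR F g (prog2 g) 0 1782 = true := by
        interval_cases g
        · exact hp2_62
        · exact hp2_63
        · exact hp2_64
        · exact hp2_65
        · exact hp2_66
        · exact hp2_67
        · exact hp2_68
        · exact hp2_69
        · exact hp2_70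
        · exact hp2_71
        · exact hp2_72
        · exact hp2_73
        · exact hp2_74
      exact Nat.eq_of_beq_eq_true (rangeAll_spec h q (Nat.zero_le _) (by omega))
  refine ⟨has_of_word (w := [63]) ?_ ?_, has_of_word (w := [74]) ?_ ?_⟩
  · intro a ha
    simp only [List.mem_singleton] at ha
    subst ha
    exact h2 _ (by norm_num) (by norm_num)
  · have h : rangeAll (fun q => Nat.beq (F 0 q) (wApp F [63] q)) 0 1782 = true := by decide +kernel
    exact fun q hq => Nat.eq_of_beq_eq_true (rangeAll_spec h q (Nat.zero_le _) (by omega))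
  · intro a ha
    simp only [List.mem_singleton] at ha
    subst ha
    exact h2 _ (by norm_num) (by norm_num)
  · have h : rangeAll (fun q => Nat.beq (F 1 q) (wApp F [74] q)) 0 1782 = true := by decide +kernel
    exact fun q hq => Nat.eq_of_beq_eq_true (rangeAll_spec h q (Nat.zero_le _) (by omega))

/-- The final theorem. -/
theorem card_out {H : Subgroup (Equiv.Perm (Fin 1782))} (hcard : Nat.card H = 448345497600) (hX : ∀ g, 55 ≤ g → g < 62 → Has F H g) : Nat.card (Out H) = 2 := by
  obtain ⟨⟨A, hA, rA⟩, ⟨b, hb, rb⟩⟩ := has_gens hX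
  exact main hcard hA hb rA rb

end Cfsg.Agent.Lib.PermComp.OutP.Suz
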